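import Mathlib
import Cfsg.Prelude.Def_Blocks
import Cfsg.Agent.S0135
import Cfsg.Agent.S0139
import Cfsg.Agent.S0143
import Cfsg.Agent.S0165
import Cfsg.Agent.Characters.Core
import Cfsg.Agent.Blocks.Deflate
set_option linter.all false

/-!
# Codegrees of irreducible characters
-/

set_option autoImplicit false
open Cfsg

namespace Cfsg.Agent.H674.Codegree

open Cfsg.Agent.Characters.Core

universe u

variable {G : Type u} [Group G]

theorem charDegree_spec {χ : G → ℂ} (hχ : IsIrrCharacter G χ) :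
    χ 1 = (charDegree χ : ℂ) ∧ 0 < charDegree χ := by
  obtain ⟨n, hn, hn'⟩ := isIrr_apply_one hχ
  have : charDegree χ = n := by simp [charDegree, hn']
  rw [this]
  exact ⟨hn', hn⟩

theorem charDegree_dvd_card [Finite G] {χ : G → ℂ} (hχ : IsIrrCharacter G χ) :
    charDegree χ ∣ Nat.card G := by
  obtain ⟨n, ρ, hρ, rfl⟩ := hχ
  have h2 : charDegree ρ.character = Module.finrank ℂ (Fin n → ℂ) := by
    rw [charDegree, Representation.char_one]
    simp
  rw [h2]
  exact Cfsg.Agent.S0135.result ρ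

/-- The kernel of a character, as a normal subgroup. -/
theorem exists_kernel [Finite G] {χ : G → ℂ} (hχ : IsCharacter G χ) :
    ∃ K : Subgroup G, K.Normal ∧ ∀ g, g ∈ K ↔ χ g = χ 1 := by
  obtain ⟨n, ρ, rfl⟩ := hχ
  refine ⟨MonoidHom.ker ρ, MonoidHom.normal_ker ρ, fun g => ?_⟩
  rw [Representation.char_one, Cfsg.Agent.S0139.result ρ g]
  rfl

/-- An irreducible character is inflated from a faithful one. -/
theorem exists_faithful [Finite G] {χ : G → ℂ} (hχ : IsIrrCharacter G χ) (K : Subgroup G)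
    [K.Normal] (hK : ∀ g, g ∈ K ↔ χ g = χ 1) :
    ∃ χ' : IrrCharacter (G ⧸ K), χ = (χ' : G ⧸ K → ℂ) ∘ QuotientGroup.mk := by
  classical
  have : Fintype K := Fintype.ofFinite K
  refine Cfsg.Agent.Blocks.Deflate.exists_deflation K χ hχ ?_
  have h1 : ∀ n : K, χ n = χ 1 := fun n => (hK n).1 n.2
  rw [Finset.sum_congr rfl fun n _ => h1 n, Finset.sum_const, nsmul_eq_mul]
  refine mul_ne_zero ?_ (isIrr_apply_one_ne_zero hχ)
  rw [Finset.card_univ, ← Nat.card_eq_fintype_card]
  exact_mod_cast Nat.card_pos.ne'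

theorem card_kernel {χ : G → ℂ} (K : Subgroup G) (hK : ∀ g, g ∈ K ↔ χ g = χ 1) :
    Nat.card {g : G // χ g = χ 1} = Nat.card K :=
  Nat.card_congr (Equiv.subtypeEquivRight fun g => (hK g).symm)

/-- `|ker χ| χ(1)` divides the group order. -/
theorem kernel_mul_degree_dvd [Finite G] {χ : G → ℂ} (hχ : IsIrrCharacter G χ) (K : Subgroup G)
    [K.Normal] (hK : ∀ g, g ∈ K ↔ χ g = χ 1) :
    Nat.card K * charDegree χ ∣ Nat.card G := by
  obtain ⟨χ', hχ'⟩ := exists_faithful hχ K hK
  have h1 : charDegree χ = charDegree (χ' : G ⧸ K → ℂ) := by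
    rw [hχ']
    simp [charDegree]
  rw [h1, Subgroup.card_eq_card_quotient_mul_card_subgroup K, mul_comm (Nat.card (G ⧸ K))]
  exact Nat.mul_dvd_mul_left _ (charDegree_dvd_card χ'.2)

/-- If `p` does not divide the codegree of `χ` then `χ x = 0` or `χ x = χ 1` for `x` of
order `p`. -/
theorem apply_eq_zero_or [Finite G] {χ : G → ℂ} (hχ : IsIrrCharacter G χ) {p : ℕ} (hp : p.Prime)
    (K : Subgroup G) [K.Normal] (hK : ∀ g, g ∈ K ↔ χ g = χ 1)
    (hcod : ¬ p ∣ Nat.card G / (Nat.card K * charDegree χ)) {x : G} (hx : orderOf x = p) :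
    χ x = 0 ∨ χ x = χ 1 := by
  classical
  by_cases hxK : x ∈ K
  · exact Or.inr ((hK x).1 hxK)
  left
  obtain ⟨χ', hχ'⟩ := exists_faithful hχ K hK
  have h1 : charDegree χ = charDegree (χ' : G ⧸ K → ℂ) := by
    rw [hχ']
    simp [charDegree]
  have h2 : Nat.card G / (Nat.card K * charDegree χ) =
      Nat.card (G ⧸ K) / charDegree (χ' : G ⧸ K → ℂ) := by
    rw [h1, Subgroup.card_eq_card_quotient_mul_card_subgroup K, mul_comm (Nat.card (G ⧸ K))]
    exact Nat.mul_div_mul_left _ _ Nat.card_pos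
  rw [h2] at hcod
  have hord : orderOf (QuotientGroup.mk x : G ⧸ K) = p := by
    have h3 : (QuotientGroup.mk x : G ⧸ K) ^ p = 1 := by
      rw [← QuotientGroup.mk_pow, ← hx, pow_orderOf_eq_one, QuotientGroup.mk_one]
    rcases (Nat.dvd_prime hp).1 (orderOf_dvd_of_pow_eq_one h3) with h4 | h4
    · exact absurd ((QuotientGroup.eq_one_iff x).1 (orderOf_eq_one_iff.1 h4)) hxK
    · exact h4
  obtain ⟨n, ρ, hρ, hρχ⟩ := χ'.2
  have hfr : charDegree (χ' : G ⧸ K → ℂ) = Module.finrank ℂ (Fin n → ℂ) := by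
    rw [← hρχ, charDegree, Representation.char_one]
    simp
  have h0 : (Nat.card (G ⧸ K)) ≠ 0 := Nat.card_pos.ne'
  have hdvd := charDegree_dvd_card χ'.2
  have hval : (Nat.card (G ⧸ K)).factorization p ≤
      (charDegree (χ' : G ⧸ K → ℂ)).factorization p := by
    by_contra hlt
    push Not at hlt
    apply hcod
    have hd0 : charDegree (χ' : G ⧸ K → ℂ) ≠ 0 := (charDegree_spec χ'.2).2.ne'
    have h5 : (Nat.card (G ⧸ K) / charDegree (χ' : G ⧸ K → ℂ)).factorization p ≠ 0 := by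
      rw [Nat.factorization_div hdvd]
      simp only [Finsupp.coe_tsub, Pi.sub_apply]
      omega
    exact Nat.dvd_of_factorization_pos h5
  have h6 := Cfsg.Agent.S0165.result ρ p ((Nat.card (G ⧸ K)).factorization p) hp
    (Nat.ordProj_dvd _ _) (Nat.pow_succ_factorization_not_dvd h0 hp) ?_
    (QuotientGroup.mk x : G ⧸ K) (by rw [hord])
  · rw [hχ', ← hρχ]
    exact h6
  · rw [← hfr]
    exact (hp.pow_dvd_iff_le_factorization (charDegree_spec χ'.2).2.ne').2 hval

/-- A prime dividing the group order divides the codegree of some irreducible character. -/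
theorem exists_codegree [Finite G] {p : ℕ} (hp : p.Prime) (hpG : p ∣ Nat.card G) :
    ∃ χ : IrrCharacter G, p ∣ (Nat.card G /
      (Nat.card {g : G // (χ : G → ℂ) g = (χ : G → ℂ) 1} * charDegree (χ : G → ℂ))) := by
  classical
  by_contra hcon
  push Not at hcon
  have : Fact p.Prime := ⟨hp⟩
  obtain ⟨x, hx⟩ := exists_prime_orderOf_dvd_card' p hpG
  have hx1 : x ≠ 1 := by
    rintro rfl
    rw [orderOf_one] at hx
    exact hp.one_lt.ne hx
  obtain ⟨hfin, hcol⟩ := Cfsg.Agent.S0143.finite_irr_and_column (G := G)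
  have := Fintype.ofFinite (Cfsg.IrrCharacter G)
  have hsum := hcol x hx1
  rw [finsum_eq_sum_of_fintype] at hsum
  have hval : ∀ χ : IrrCharacter G, (χ : G → ℂ) x = 0 ∨ (χ : G → ℂ) x = (χ : G → ℂ) 1 := by
    intro χ
    obtain ⟨K, hKn, hK⟩ := exists_kernel (isIrr_isCharacter χ.2)
    refine apply_eq_zero_or χ.2 hp K hK ?_ hx
    rw [← card_kernel K hK]
    exact hcon χ
  have hnn : ∀ χ : IrrCharacter G, 0 ≤ ((χ : G → ℂ) 1 * (χ : G → ℂ) x).re := by
    intro χ
    rcases hval χ with h | h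
    · rw [h]; simp
    · rw [h, (charDegree_spec χ.2).1]
      rw [← Nat.cast_mul, Complex.natCast_re]
      exact Nat.cast_nonneg _
  have hre := congrArg Complex.re hsum
  rw [Complex.re_sum, Complex.zero_re] at hre
  have h1 := (Finset.sum_eq_zero_iff_of_nonneg fun χ _ => hnn χ).1 hre
    ⟨1, isIrr_one⟩ (Finset.mem_univ _)
  simp at h1

end Cfsg.Agent.H674.Codegree
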