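import Mathlib
import Cfsg.Prelude.Def_Characters
import Cfsg.Agent.Characters.Core
import Cfsg.Agent.Characters.Brauer
import Cfsg.Agent.Blocks.Deflate
import Cfsg.Agent.S0158
import Cfsg.Agent.S0161
set_option linter.all false

/-!
# Real constituents of permutation characters

* `sum_indicator_mul` : `∑ χ, ν(χ) [(1_H)^G, χ] = #{x | x² ∈ H} / |H|`.
* `eq_one_of_constituent_of_real` : a real-valued constituent of `(1_H)^G` is principal if the core
  of `H` has odd index.
* `odd_index_core` : the converse.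
-/

set_option autoImplicit false
open Cfsg

namespace Cfsg.Agent.H674.RealPerm

open Cfsg.Agent.Characters.Core
open scoped ComplexConjugate

universe u

variable {G : Type u} [Group G]

/-- The Frobenius–Schur indicator. -/
noncomputable def ind [Fintype G] (χ : G → ℂ) : ℂ := (Nat.card G : ℂ)⁻¹ * ∑ g : G, χ (g * g)

theorem ind_def [Fintype G] (χ : G → ℂ) :
    ind χ = (Nat.card G : ℂ)⁻¹ * ∑ g : G, χ (g * g) := rfl

/-- The number of square roots, as a class function. -/
noncomputable def roots (G : Type u) [Group G] : G → ℂ := fun g => (Nat.card {s : G // s * s = g} : ℂ)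

theorem roots_apply (g : G) : roots G g = (Nat.card {s : G // s * s = g} : ℂ) := rfl

theorem isClassFunction_roots : IsClassFunction G (roots G) := by
  intro g h
  rw [roots_apply, roots_apply]
  congr 1
  refine Nat.card_congr ((MulAut.conj h⁻¹).toEquiv.subtypeEquiv fun s => ?_)
  simp only [MulEquiv.toEquiv_eq_coe, EquivLike.coe_coe, MulAut.conj_apply, inv_inv]
  constructor
  · intro hs
    have : h⁻¹ * s * h * (h⁻¹ * s * h) = h⁻¹ * (s * s) * h := by group
    rw [this, hs]
    group
  · intro hs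
    have : s * s = h * (h⁻¹ * s * h * (h⁻¹ * s * h)) * h⁻¹ := by group
    rw [this, hs]

theorem sum_roots_mul [Fintype G] (f : G → ℂ) :
    ∑ g : G, roots G g * f g = ∑ s : G, f (s * s) := by
  classical
  rw [← Finset.sum_fiberwise (s := Finset.univ) (g := fun s : G => s * s)
    (f := fun s => f (s * s))]
  refine Finset.sum_congr rfl fun g _ => ?_
  rw [roots_apply, Nat.card_eq_fintype_card, Fintype.card_subtype]
  rw [Finset.sum_congr rfl (g := fun _ => f g)]
  · rw [Finset.sum_const, nsmul_eq_mul]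
  · intro s hs
    rw [(Finset.mem_filter.1 hs).2]

theorem ind_cases [Fintype G] {χ : G → ℂ} (hχ : IsIrrCharacter G χ) :
    (ind χ = 0 ∨ ind χ = 1 ∨ ind χ = -1) ∧ (ind χ = 0 ↔ ∃ s : G, (χ s).im ≠ 0) := by
  obtain ⟨n, ρ, hρ, rfl⟩ := hχ
  exact Cfsg.Agent.S0158.result ρ

theorem conj_ind [Fintype G] {χ : G → ℂ} (hχ : IsIrrCharacter G χ) : conj (ind χ) = ind χ := by
  rcases (ind_cases hχ).1 with h | h | h <;> rw [h] <;> simp

theorem classInner_roots [Fintype G] {χ : G → ℂ} (hχ : IsIrrCharacter G χ) :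
    classInner (roots G) χ = ind χ := by
  rw [← conj_ind hχ, classInner_def, ind_def, sum_roots_mul (fun g => conj (χ g)), map_mul,
    map_sum]
  simp

/-- The permutation character on the cosets of `H`. -/
noncomputable abbrev perm [Fintype G] (H : Subgroup G) : G → ℂ := indFun H (fun _ : H => (1 : ℂ))

theorem isCharacter_perm [Fintype G] (H : Subgroup G) : IsCharacter G (perm H) :=
  Cfsg.Agent.Characters.Brauer.isCharacter_indFun H (isCharacter_one (G := H))

theorem classInner_perm [Fintype G] (H : Subgroup G) [Fintype H] (χ : G → ℂ)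
    (hχ : IsClassFunction G χ) :
    classInner (perm H) χ = (Nat.card H : ℂ)⁻¹ * ∑ h : H, conj (χ h) := by
  rw [Cfsg.Agent.Characters.Brauer.classInner_indFun H inferInstance _ χ hχ, classInner_def]
  simp

theorem classInner_perm_one [Fintype G] (H : Subgroup G) :
    classInner (perm H) (1 : G → ℂ) = 1 := by
  classical
  have : Fintype H := Fintype.ofFinite H
  rw [classInner_perm H _ (isIrr_isClassFunction isIrr_one)]
  have : (Nat.card H : ℂ) ≠ 0 := by exact_mod_cast Nat.card_pos.ne'
  simp only [Pi.one_apply, map_one, Finset.sum_const, Finset.card_univ, nsmul_eq_mul, mul_one,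
    ← Nat.card_eq_fintype_card]
  field_simp

theorem ind_one [Fintype G] : ind (1 : G → ℂ) = 1 := by
  rw [ind_def]
  have : (Nat.card G : ℂ) ≠ 0 := by exact_mod_cast Nat.card_pos.ne'
  simp only [Pi.one_apply, Finset.sum_const, Finset.card_univ, nsmul_eq_mul, mul_one,
    ← Nat.card_eq_fintype_card]
  field_simp

/-- `∑ χ, ν(χ) [(1_H)^G, χ] = #{x | x² ∈ H} / |H|`. -/
theorem sum_indicator_mul [Fintype G] [Fintype (IrrCharacter G)] (H : Subgroup G) :
    ∑ χ : IrrCharacter G, ind (χ : G → ℂ) * classInner (perm H) (χ : G → ℂ) =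
      (Nat.card H : ℂ)⁻¹ * Nat.card {s : G // s * s ∈ H} := by
  classical
  have : Fintype H := Fintype.ofFinite H
  have h1 := classInner_eq_sum (isClassFunction_roots (G := G))
    (isCharacter_isClassFunction (isCharacter_perm H))
  have h2 : ∀ χ : IrrCharacter G, classInner (roots G) (χ : G → ℂ) *
      conj (classInner (perm H) (χ : G → ℂ)) =
      ind (χ : G → ℂ) * classInner (perm H) (χ : G → ℂ) := by
    intro χ
    obtain ⟨m, hm⟩ := classInner_isNat (isCharacter_perm H) (isIrr_isCharacter χ.2)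
    rw [classInner_roots χ.2, hm]
    simp
  rw [Finset.sum_congr rfl fun χ _ => h2 χ] at h1
  rw [← h1, ← classInner_conj_symm, classInner_perm H _ isClassFunction_roots]
  have h3 : ∑ h : H, conj (roots G h) = (Nat.card {s : G // s * s ∈ H} : ℂ) := by
    have h4 : ∀ h : H, conj (roots G h) = roots G h := by
      intro h
      rw [roots_apply]
      simp
    rw [Finset.sum_congr rfl fun h _ => h4 h]
    have h5 := sum_roots_mul (G := G) (fun g => if g ∈ H then (1 : ℂ) else 0)
    have h6 : ∑ g : G, roots G g * (if g ∈ H then (1 : ℂ) else 0) = ∑ h : H, roots G h := by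
      have h7 : ∀ g : G, roots G g * (if g ∈ H then (1 : ℂ) else 0) =
          if g ∈ H then roots G g else 0 := by
        intro g
        split_ifs <;> simp
      rw [Finset.sum_congr rfl fun g _ => h7 g, ← Finset.sum_filter]
      exact (Finset.sum_subtype _ (by simp) _)
    rw [← h6, h5, ← Finset.sum_filter, Finset.sum_const, Nat.card_eq_fintype_card,
      Fintype.card_subtype, nsmul_eq_mul, mul_one]
  rw [h3, map_mul]
  simp

/-- If `N ≤ H` is normal in `G`, an irreducible constituent of `(1_H)^G` has `N` in its kernel. -/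
theorem exists_deflation_of_constituent [Fintype G] (H N : Subgroup G) [N.Normal] (hNH : N ≤ H)
    {χ : G → ℂ} (hχ : IsIrrCharacter G χ) (h : classInner (perm H) χ ≠ 0) :
    ∃ χ' : IrrCharacter (G ⧸ N), χ = (χ' : G ⧸ N → ℂ) ∘ QuotientGroup.mk := by
  classical
  have : Fintype H := Fintype.ofFinite H
  have : Fintype N := Fintype.ofFinite N
  refine Cfsg.Agent.Blocks.Deflate.exists_deflation N χ hχ ?_
  have hfin := finite_irr (G := H)
  have : Fintype (IrrCharacter H) := Fintype.ofFinite _
  have hres : IsCharacter H (fun h : H => χ h) :=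
    Cfsg.Agent.Characters.Brauer.isCharacter_restrict (isIrr_isCharacter hχ) H
  obtain ⟨m, hm⟩ := exists_nat_comb hres
  -- multiplicity of the principal character
  have h1 : classInner (fun h : H => χ h) (1 : H → ℂ) = m ⟨1, isIrr_one⟩ := by
    rw [hm]
    exact classInner_sum_nsmul_irr m ⟨1, isIrr_one⟩
  have h2 : (m ⟨1, isIrr_one⟩ : ℂ) ≠ 0 := by
    intro h0
    apply h
    rw [classInner_perm H χ (isIrr_isClassFunction hχ)]
    rw [h0, classInner_def] at h1
    have h3 := congrArg conj h1
    simp only [map_mul, map_sum, Pi.one_apply, map_one, mul_one, map_inv₀, map_natCast,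
      map_zero] at h3
    exact h3
  -- multiplicities of the principal character of `N`
  have h4 : ∀ ψ : IrrCharacter H, ∃ k : ℕ,
      ∑ n : N, (ψ : H → ℂ) (Subgroup.inclusion hNH n) = (Nat.card N : ℂ) * k := by
    intro ψ
    obtain ⟨k, hk⟩ := classInner_isNat
      (isCharacter_comp (Subgroup.inclusion hNH) (isIrr_isCharacter ψ.2))
      (isCharacter_one (G := N))
    refine ⟨k, ?_⟩
    rw [← hk, classInner_def, ← mul_assoc, mul_inv_cancel₀, one_mul]
    · simp
    · exact_mod_cast Nat.card_pos.ne'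
  choose k hk using h4
  have h5 : ∑ n : N, χ n = (Nat.card N : ℂ) * ∑ ψ : IrrCharacter H, (m ψ : ℂ) * k ψ := by
    have h6 : ∀ n : N, χ n = ∑ ψ : IrrCharacter H,
        (m ψ : ℂ) * (ψ : H → ℂ) (Subgroup.inclusion hNH n) := by
      intro n
      have := congrFun hm (Subgroup.inclusion hNH n)
      rw [Finset.sum_apply] at this
      simp only [Pi.smul_apply, nsmul_eq_mul] at this
      exact this
    rw [Finset.sum_congr rfl fun n _ => h6 n, Finset.sum_comm, Finset.mul_sum]
    refine Finset.sum_congr rfl fun ψ _ => ?_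
    rw [← Finset.mul_sum, hk ψ]
    ring
  rw [h5]
  have hk1 : k ⟨1, isIrr_one⟩ = 1 := by
    have h7 := hk ⟨1, isIrr_one⟩
    simp only [Pi.one_apply, Finset.sum_const, Finset.card_univ, nsmul_eq_mul, mul_one,
      ← Nat.card_eq_fintype_card] at h7
    have h8 : Nat.card N * k ⟨1, isIrr_one⟩ = Nat.card N * 1 := by
      rw [mul_one]; exact_mod_cast h7.symm
    exact Nat.eq_of_mul_eq_mul_left Nat.card_pos h8
  have h9 : (0 : ℕ) < ∑ ψ : IrrCharacter H, m ψ * k ψ := by
    refine Finset.sum_pos' (fun _ _ => Nat.zero_le _) ⟨⟨1, isIrr_one⟩, Finset.mem_univ _, ?_⟩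
    rw [hk1, mul_one]
    exact Nat.pos_of_ne_zero (by exact_mod_cast h2)
  have h10 : (Nat.card N : ℂ) * ∑ ψ : IrrCharacter H, (m ψ : ℂ) * k ψ =
      ((Nat.card N * ∑ ψ : IrrCharacter H, m ψ * k ψ : ℕ) : ℂ) := by push_cast; ring
  rw [h10]
  exact_mod_cast (Nat.mul_pos Nat.card_pos h9).ne'

theorem eq_one_of_constituent_of_real [Fintype G] (H : Subgroup G)
    (hodd : Odd H.normalCore.index) {χ : G → ℂ} (hχ : IsIrrCharacter G χ)
    (h : classInner (perm H) χ ≠ 0) (hreal : ∀ g, conj (χ g) = χ g) : χ = 1 := by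
  obtain ⟨χ', hχ'⟩ := exists_deflation_of_constituent H H.normalCore H.normalCore_le hχ h
  have h1 : (χ' : G ⧸ H.normalCore → ℂ) = fun _ => 1 := by
    refine Cfsg.Agent.S0161.result (G := G ⧸ H.normalCore) ?_ χ' ?_
    · rwa [← Subgroup.index_eq_card]
    · intro q
      obtain ⟨g, rfl⟩ := QuotientGroup.mk_surjective q
      have := hreal g
      rw [hχ'] at this
      exact Complex.conj_eq_iff_im.1 this
  rw [hχ', h1]
  rfl

theorem odd_index_core [Fintype G] (H : Subgroup G)
    (h : ∀ χ : G → ℂ, IsIrrCharacter G χ → classInner (perm H) χ ≠ 0 → ind χ = 1 → χ = 1) :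
    Odd H.normalCore.index := by
  classical
  have hfin := finite_irr (G := G)
  have : Fintype (IrrCharacter G) := Fintype.ofFinite _
  have h1 := sum_indicator_mul H
  have hH : (Nat.card H : ℂ) ≠ 0 := by exact_mod_cast Nat.card_pos.ne'
  -- the sum is at most one
  have h2 : (Nat.card {s : G // s * s ∈ H} : ℝ) ≤ Nat.card H := by
    have h3 := congrArg Complex.re h1
    rw [Complex.re_sum, ← Finset.add_sum_erase _ _ (Finset.mem_univ (⟨1, isIrr_one⟩ : IrrCharacter G))]
      at h3
    have h4 : ∑ χ ∈ (Finset.univ : Finset (IrrCharacter G)).erase ⟨1, isIrr_one⟩,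
        (ind (χ : G → ℂ) * classInner (perm H) (χ : G → ℂ)).re ≤ 0 := by
      refine Finset.sum_nonpos fun χ hχ => ?_
      obtain ⟨m, hm⟩ := classInner_isNat (isCharacter_perm H) (isIrr_isCharacter χ.2)
      rcases (ind_cases χ.2).1 with h5 | h5 | h5
      · rw [h5]; simp
      · by_cases h6 : classInner (perm H) (χ : G → ℂ) = 0
        · rw [h6]; simp
        · exfalso
          exact (Finset.mem_erase.1 hχ).1 (Subtype.ext (h _ χ.2 h6 h5))
      · rw [h5, hm]; simp
    have h5 : (ind (1 : G → ℂ) * classInner (perm H) (1 : G → ℂ)).re = 1 := by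
      rw [ind_one, classInner_perm_one]; simp
    rw [h5] at h3
    have h6 : (((Nat.card H : ℂ)⁻¹ * Nat.card {s : G // s * s ∈ H} : ℂ)).re =
        (Nat.card H : ℝ)⁻¹ * Nat.card {s : G // s * s ∈ H} := by
      rw [← Complex.ofReal_natCast, ← Complex.ofReal_natCast, ← Complex.ofReal_inv,
        ← Complex.ofReal_mul, Complex.ofReal_re]
    rw [h6] at h3
    have h7 : (Nat.card H : ℝ)⁻¹ * Nat.card {s : G // s * s ∈ H} ≤ 1 := by linarith
    have h8 : (0 : ℝ) < Nat.card H := by exact_mod_cast Nat.card_pos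
    rwa [inv_mul_le_iff₀ h8, mul_one] at h7
  have h2' : Nat.card {s : G // s * s ∈ H} ≤ Nat.card H := by exact_mod_cast h2
  have h3 : ∀ s : G, s * s ∈ H → s ∈ H := by
    have h4 : (H : Set G) ⊆ {s : G | s * s ∈ H} := fun s hs => H.mul_mem hs hs
    have h5 : (H : Set G) = {s : G | s * s ∈ H} := by
      refine Set.eq_of_subset_of_ncard_le h4 ?_ (Set.toFinite _)
      have h6 : {s : G | s * s ∈ H}.ncard = Nat.card {s : G // s * s ∈ H} := rfl
      have h7 : (H : Set G).ncard = Nat.card H := rfl
      rw [h6, h7]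
      exact h2'
    intro s hs
    have : s ∈ {s : G | s * s ∈ H} := hs
    rw [← h5] at this
    exact this
  by_contra hcon
  rw [Nat.not_odd_iff_even, even_iff_two_dvd, Subgroup.index_eq_card] at hcon
  have : Fact (Nat.Prime 2) := ⟨Nat.prime_two⟩
  obtain ⟨x, hx⟩ := exists_prime_orderOf_dvd_card' 2 hcon
  obtain ⟨g, rfl⟩ := QuotientGroup.mk_surjective x
  have hg2 : g * g ∈ H.normalCore := by
    rw [← QuotientGroup.eq_one_iff, QuotientGroup.mk_mul, ← pow_two, ← hx]
    exact pow_orderOf_eq_one _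
  have hg : g ∈ H.normalCore := by
    intro b
    apply h3
    have := hg2 b
    have h5 : b * g * b⁻¹ * (b * g * b⁻¹) = b * (g * g) * b⁻¹ := by group
    rw [h5]
    exact this
  rw [(QuotientGroup.eq_one_iff g).2 hg, orderOf_one] at hx
  exact absurd hx (by norm_num)

end Cfsg.Agent.H674.RealPerm
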