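import Cfsg.Agent.H771.KTools_m3
import Cfsg.Agent.LieClassical.FieldTransfer
import Cfsg.Agent.Lib.MatRng
import Cfsg.Agent.LieClassical.HermBasic
import Cfsg.Agent.S0280
import Cfsg.Agent.H674.PSUFourTwo
import Cfsg.Agent.FastGrp
import Cfsg.Agent.Prune
set_option linter.all false

section
prune_inst 0x7fffbdfffffcffffdfff7e7ffedbfffc3f97dfffbffffd4bffe86bffbfbf338209c56bad09e09aff1fd6e09410b87853fbfffeffee6ffc7ffffdfff45ffbee4ff5f7bd08519e8cb40fbc2ff703f07f8e7f3fffffffffffffffffffffffffffbeffffffffffff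

-- part: H674/ExplicitCases
section
set_option linter.all false
open scoped Cfsg.Agent.FastGrp

-- part: H674/Explicit
section
/-!
# Explicit matrices and class numbers of `SU_n(q)` and `PSU_n(q)`

Over a computable field the class number is bounded below by lists of matrices with different decidable invariants.
-/

set_option autoImplicit false
open Cfsg

namespace Cfsg.Agent.H674.Explicit

open Matrix Cfsg.Agent.H92 Cfsg.Agent.LieClassical Cfsg.Agent.H674.SUTools Cfsg.Agent.H674.SUBlock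

/-- `F_p[r]`, `r ^ 2 = a + b r` -/
abbrev QF (p : ℕ) (a b : ZMod p) : Type := QuadraticAlgebra (ZMod p) a b

instance (p : ℕ) [Fact p.Prime] (a b : ZMod p) : Fintype (QF p a b) :=
  Fintype.ofEquiv _ (QuadraticAlgebra.equivProd (a : ZMod p) b).symm

theorem card_QF (p : ℕ) [Fact p.Prime] (a b : ZMod p) : Fintype.card (QF p a b) = p ^ 2 := by
  rw [Fintype.ofEquiv_card, Fintype.card_prod, ZMod.card, pow_two]

section

variable {K : Type} [Field K] [DecidableEq K] {n q : ℕ}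

/-- the matrix is an element of `SU_n(q)` -/
def good (q : ℕ) (M : Matrix (Fin n) (Fin n) K) : Bool :=
  decide (M.det = 1) && decide (Mᵀ * M.map (fun x => x ^ q) = 1)

theorem exists_of_good [Fintype K] (hF : Fintype.card K = q ^ 2) {M : Matrix (Fin n) (Fin n) K} (h : good q M = true) :
    ∃ x : Cfsg.SU n K q, cm x = M := by
  rw [good, Bool.and_eq_true, decide_eq_true_eq, decide_eq_true_eq] at h
  exact ⟨mkSU hF M h.1 h.2, rfl⟩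

/-- the matrix has order `N` -/
def ordIs (M : Matrix (Fin n) (Fin n) K) (N : ℕ) : Bool :=
  decide (M ^ N = 1) && decide (∀ m < N, 0 < m → M ^ m ≠ 1)

theorem hasOrd_of [Fintype K] (hF : Fintype.card K = q ^ 2) {M : Matrix (Fin n) (Fin n) K} (h : good q M = true)
    {N : ℕ} (hN : 0 < N) (h2 : ordIs M N = true) : KTools.HasOrd (Cfsg.SU n K q) N := by
  obtain ⟨x, hx⟩ := exists_of_good hF h
  rw [ordIs, Bool.and_eq_true, decide_eq_true_eq, decide_eq_true_eq] at h2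
  refine ⟨x, ?_⟩
  rw [← orderOf_cm, hx, orderOf_eq_iff hN]
  exact h2

/-- lower bound for the class number of `SU_n(q)` -/
theorem length_le_SU [Fintype K] (hF : Fintype.card K = q ^ 2) {α : Type} (f : Matrix (Fin n) (Fin n) K → α)
    (hf : ∀ P Q M : Matrix (Fin n) (Fin n) K, P * Q = 1 → Q * P = 1 → f (P * M * Q) = f M)
    (l : List (Matrix (Fin n) (Fin n) K)) (hl : ∀ M ∈ l, good q M = true) (hnd : (l.map f).Nodup) :
    l.length ≤ Nat.card (ConjClasses (Cfsg.SU n K q)) := by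
  have h1 := KTools.card_le_of_inj (G := Cfsg.SU n K q)
    (fun i : Fin l.length => (exists_of_good hF (hl (l.get i) (List.get_mem l i))).choose) ?_
  · simpa using h1
  · intro i j hij
    obtain ⟨P, Q, h1, h2, h3⟩ := exists_similar hij
    have hi := (exists_of_good hF (hl (l.get i) (List.get_mem l i))).choose_spec
    have hj := (exists_of_good hF (hl (l.get j) (List.get_mem l j))).choose_spec
    have h4 : f (l.get i) = f (l.get j) := by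
      rw [← hi, ← hj, h3, hf P Q _ h1 h2]
    have h5 := List.nodup_iff_injective_get.1 hnd
    have h6 : (l.map f).get (i.cast (by simp)) = (l.map f).get (j.cast (by simp)) := by
      simpa using h4
    have h7 := h5 h6
    exact Fin.ext (by simpa [Fin.ext_iff] using h7)

/-- lower bound for the class number of `PSU_n(q)` -/
theorem length_le_PSU [Fintype K] (hF : Fintype.card K = q ^ 2) (hn : 3 ≤ n) {α : Type}
    (f : Matrix (Fin n) (Fin n) K → α)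
    (hf : ∀ P Q M : Matrix (Fin n) (Fin n) K, P * Q = 1 → Q * P = 1 → f (P * M * Q) = f M)
    (hc : ∀ (c : K) (M : Matrix (Fin n) (Fin n) K), c ^ n = 1 → c ^ (q + 1) = 1 → f (c • M) = f M)
    (l : List (Matrix (Fin n) (Fin n) K)) (hl : ∀ M ∈ l, good q M = true) (hnd : (l.map f).Nodup) :
    l.length ≤ Nat.card (ConjClasses (Cfsg.PSU n K q)) := by
  have h1 := KTools.card_le_of_inj (G := Cfsg.PSU n K q)
    (fun i : Fin l.length => pr (exists_of_good hF (hl (l.get i) (List.get_mem l i))).choose) ?_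
  · simpa using h1
  · intro i j hij
    have hi := (exists_of_good hF (hl (l.get i) (List.get_mem l i))).choose_spec
    have hj := (exists_of_good hF (hl (l.get j) (List.get_mem l j))).choose_spec
    set x := (exists_of_good hF (hl (l.get i) (List.get_mem l i))).choose
    set y := (exists_of_good hF (hl (l.get j) (List.get_mem l j))).choose
    have h4 : f (l.get i) = f (l.get j) := by
      obtain ⟨c, h5⟩ := isConj_iff.1 hij
      obtain ⟨g, rfl⟩ := pr_surjective c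
      have h6 : pr ((g * x * g⁻¹)⁻¹ * y) = 1 := by
        rw [map_mul, map_inv, map_mul, map_mul, map_inv, h5]
        simp
      rw [pr_eq_one_iff, SUBasic.mem_center_SU_iff hF hn] at h6
      obtain ⟨c, hcn, hcq, h7⟩ := h6
      have h8 : y = (g * x * g⁻¹) * SUBasic.suScalar q c hcn hcq := by
        rw [← h7]; group
      have h9 : cm y = c • (cm g * cm x * cm g⁻¹) := by
        rw [h8, map_mul, map_mul, map_mul]
        show _ * Matrix.diagonal (fun _ => c) = _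
        ext a b
        rw [Matrix.mul_diagonal, Matrix.smul_apply, smul_eq_mul, mul_comm]
      rw [← hi, ← hj, h9, hc _ _ hcn hcq, hf]
      · rw [← map_mul, mul_inv_cancel, map_one]
      · rw [← map_mul, inv_mul_cancel, map_one]
    have h5 := List.nodup_iff_injective_get.1 hnd
    have h6 : (l.map f).get (i.cast (by simp)) = (l.map f).get (j.cast (by simp)) := by
      simpa using h4
    have h7 := h5 h6
    exact Fin.ext (by simpa [Fin.ext_iff] using h7)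

omit [DecidableEq K] in
theorem conj_pow' {P Q M : Matrix (Fin n) (Fin n) K} (h1 : P * Q = 1) (h2 : Q * P = 1) (k : ℕ) :
    (P * M * Q) ^ k = P * M ^ k * Q := by
  induction k with
  | zero => simp [h1]
  | succ k ih =>
    rw [pow_succ, ih, pow_succ]
    calc P * M ^ k * Q * (P * M * Q) = P * M ^ k * (Q * P) * M * Q := by simp only [mul_assoc]
      _ = _ := by rw [h2, mul_one]; simp only [mul_assoc]

omit [DecidableEq K] in
theorem trace_conj {P Q M : Matrix (Fin n) (Fin n) K} (h2 : Q * P = 1) :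
    (P * M * Q).trace = M.trace := by
  rw [Matrix.trace_mul_cycle, h2, one_mul]

omit [DecidableEq K] in
theorem conj_eq_one_iff {P Q M : Matrix (Fin n) (Fin n) K} (h1 : P * Q = 1) (h2 : Q * P = 1) :
    P * M * Q = 1 ↔ M = 1 := by
  constructor
  · intro h
    calc M = (Q * P) * M * (Q * P) := by rw [h2]; simp
      _ = Q * (P * M * Q) * P := by simp only [mul_assoc]
      _ = 1 := by rw [h, mul_one, h2]
  · rintro rfl
    rw [mul_one, h1]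

/-- trace and exponents -/
def inv (ks : List ℕ) (M : Matrix (Fin n) (Fin n) K) : K × List Bool :=
  (M.trace, ks.map fun k => decide (M ^ k = 1))

theorem inv_conj (ks : List ℕ) (P Q M : Matrix (Fin n) (Fin n) K) (h1 : P * Q = 1) (h2 : Q * P = 1) :
    inv ks (P * M * Q) = inv ks M := by
  unfold inv
  rw [trace_conj h2]
  congr 1
  refine List.map_congr_left fun k _ => ?_
  rw [decide_eq_decide, conj_pow' h1 h2, conj_eq_one_iff h1 h2]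

/-- the matrix is scalar -/
def isSc [NeZero n] (M : Matrix (Fin n) (Fin n) K) : Bool := decide (M = M 0 0 • (1 : Matrix (Fin n) (Fin n) K))

theorem isSc_iff [NeZero n] (M : Matrix (Fin n) (Fin n) K) :
    isSc M = true ↔ ∃ c : K, M = c • (1 : Matrix (Fin n) (Fin n) K) := by
  rw [isSc, decide_eq_true_eq]
  constructor
  · intro h; exact ⟨_, h⟩
  · rintro ⟨c, rfl⟩
    simp

theorem isSc_conj [NeZero n] {P Q M : Matrix (Fin n) (Fin n) K} (h1 : P * Q = 1) (h2 : Q * P = 1) :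
    isSc (P * M * Q) = isSc M := by
  rw [Bool.eq_iff_iff, isSc_iff, isSc_iff]
  constructor
  · rintro ⟨c, h⟩
    refine ⟨c, ?_⟩
    calc M = (Q * P) * M * (Q * P) := by rw [h2]; simp
      _ = Q * (P * M * Q) * P := by simp only [mul_assoc]
      _ = c • 1 := by rw [h]; simp [h2]
  · rintro ⟨c, rfl⟩
    exact ⟨c, by simp [h1]⟩

theorem isSc_smul [NeZero n] {c : K} (hc : c ≠ 0) (M : Matrix (Fin n) (Fin n) K) :
    isSc (c • M) = isSc M := by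
  rw [Bool.eq_iff_iff, isSc_iff, isSc_iff]
  constructor
  · rintro ⟨d, h⟩
    refine ⟨c⁻¹ * d, ?_⟩
    rw [← smul_smul, ← h, smul_smul, inv_mul_cancel₀ hc, one_smul]
  · rintro ⟨d, rfl⟩
    exact ⟨c * d, by rw [smul_smul]⟩

/-- the exponents modulo scalars -/
def exps [NeZero n] (ks : List ℕ) (M : Matrix (Fin n) (Fin n) K) : List Bool := ks.map fun k => isSc (M ^ k)

theorem exps_conj [NeZero n] (ks : List ℕ) {P Q M : Matrix (Fin n) (Fin n) K} (h1 : P * Q = 1) (h2 : Q * P = 1) :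
    exps ks (P * M * Q) = exps ks M := by
  refine List.map_congr_left fun k _ => ?_
  rw [conj_pow' h1 h2, isSc_conj h1 h2]

theorem exps_smul [NeZero n] (ks : List ℕ) {c : K} (hc : c ≠ 0) (M : Matrix (Fin n) (Fin n) K) :
    exps ks (c • M) = exps ks M := by
  refine List.map_congr_left fun k _ => ?_
  rw [smul_pow, isSc_smul (pow_ne_zero _ hc)]

/-- `(M - c) ^ 2 = 0` for some `c` in the list of all scalars `cs` -/
def uni2 (cs : List K) (M : Matrix (Fin n) (Fin n) K) : Bool :=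
  decide (∃ c ∈ cs, (M - c • (1 : Matrix (Fin n) (Fin n) K)) * (M - c • (1 : Matrix (Fin n) (Fin n) K)) = 0)

theorem uni2_iff {cs : List K} (hcs : ∀ c, c ∈ cs) (M : Matrix (Fin n) (Fin n) K) :
    uni2 cs M = true ↔ ∃ c : K, (M - c • (1 : Matrix (Fin n) (Fin n) K)) * (M - c • (1 : Matrix (Fin n) (Fin n) K)) = 0 := by
  rw [uni2, decide_eq_true_eq]
  exact ⟨fun ⟨c, _, h⟩ => ⟨c, h⟩, fun ⟨c, h⟩ => ⟨c, hcs c, h⟩⟩

theorem uni2_conj {cs : List K} (hcs : ∀ c, c ∈ cs) {P Q M : Matrix (Fin n) (Fin n) K} (h1 : P * Q = 1)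
    (h2 : Q * P = 1) : uni2 cs (P * M * Q) = uni2 cs M := by
  rw [Bool.eq_iff_iff, uni2_iff hcs, uni2_iff hcs]
  refine exists_congr fun c => ?_
  have h3 : P * M * Q - c • (1 : Matrix (Fin n) (Fin n) K) = P * (M - c • 1) * Q := by
    rw [mul_sub, sub_mul]; simp [h1]
  rw [h3]
  have h4 : P * (M - c • 1) * Q * (P * (M - c • 1) * Q) = P * ((M - c • 1) * (M - c • 1)) * Q := by
    calc P * (M - c • 1) * Q * (P * (M - c • 1) * Q) = P * (M - c • 1) * (Q * P) * (M - c • 1) * Q := by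
          simp only [mul_assoc]
      _ = _ := by rw [h2, mul_one]; simp only [mul_assoc]
  rw [h4]
  constructor
  · intro h
    calc (M - c • 1) * (M - c • 1) = (Q * P) * ((M - c • 1) * (M - c • 1)) * (Q * P) := by rw [h2]; simp
      _ = Q * (P * ((M - c • 1) * (M - c • 1)) * Q) * P := by simp only [mul_assoc]
      _ = 0 := by rw [h]; simp
  · intro h
    rw [h]; simp

theorem uni2_smul {cs : List K} (hcs : ∀ c, c ∈ cs) {d : K} (hd : d ≠ 0) (M : Matrix (Fin n) (Fin n) K) :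
    uni2 cs (d • M) = uni2 cs M := by
  rw [Bool.eq_iff_iff, uni2_iff hcs, uni2_iff hcs]
  constructor
  · rintro ⟨c, h⟩
    refine ⟨d⁻¹ * c, ?_⟩
    have h3 : M - (d⁻¹ * c) • (1 : Matrix (Fin n) (Fin n) K) = d⁻¹ • (d • M - c • 1) := by
      rw [smul_sub, smul_smul, smul_smul, inv_mul_cancel₀ hd, one_smul]
    rw [h3]
    simp [h]
  · rintro ⟨c, h⟩
    refine ⟨d * c, ?_⟩
    have h3 : d • M - (d * c) • (1 : Matrix (Fin n) (Fin n) K) = d • (M - c • 1) := by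
      rw [smul_sub, smul_smul]
    rw [h3]
    simp [h]

end

end Cfsg.Agent.H674.Explicit
end

-- part: H674/ExplicitCases
section
/-!
# Explicit lower bounds: `PSU_3(3)`, `PSU_3(5)`, `PSU_4(3)`, `SU_5(2)`
-/

set_option autoImplicit false
set_option maxRecDepth 20000
open Cfsg

namespace Cfsg.Agent.H674.ExplicitCases

open Matrix Cfsg.Agent.H92 Cfsg.Agent.LieClassical Cfsg.Agent.H674.SUTools Cfsg.Agent.H674.SUBlock
open Cfsg.Agent.H674.Explicit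

abbrev F4 : Type := QF 2 1 1
abbrev F9 : Type := QF 3 2 0
abbrev F25 : Type := QF 5 2 0

instance : Fact (Nat.Prime 5) := ⟨by norm_num⟩
instance : Fact (∀ r : ZMod 2, r ^ 2 ≠ 1 + 1 * r) := ⟨by decide⟩
instance : Fact (∀ r : ZMod 3, r ^ 2 ≠ 2 + 0 * r) := ⟨by decide⟩
instance : Fact (∀ r : ZMod 5, r ^ 2 ≠ 2 + 0 * r) := ⟨by decide⟩

def l33 : List (Matrix (Fin 3) (Fin 3) F9) :=
  [!![⟨1, 0⟩, ⟨0, 0⟩, ⟨0, 0⟩; ⟨0, 0⟩, ⟨1, 0⟩, ⟨0, 0⟩; ⟨0, 0⟩, ⟨0, 0⟩, ⟨1, 0⟩],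
   !![⟨2, 0⟩, ⟨0, 0⟩, ⟨0, 0⟩; ⟨0, 0⟩, ⟨0, 0⟩, ⟨2, 0⟩; ⟨0, 0⟩, ⟨2, 0⟩, ⟨0, 0⟩],
   !![⟨1, 0⟩, ⟨0, 0⟩, ⟨0, 0⟩; ⟨0, 0⟩, ⟨0, 0⟩, ⟨0, 2⟩; ⟨0, 0⟩, ⟨0, 2⟩, ⟨0, 0⟩],
   !![⟨0, 2⟩, ⟨0, 0⟩, ⟨0, 0⟩; ⟨0, 0⟩, ⟨2, 0⟩, ⟨0, 0⟩; ⟨0, 0⟩, ⟨0, 0⟩, ⟨0, 2⟩],
   !![⟨0, 1⟩, ⟨0, 0⟩, ⟨0, 0⟩; ⟨0, 0⟩, ⟨0, 1⟩, ⟨0, 0⟩; ⟨0, 0⟩, ⟨0, 0⟩, ⟨2, 0⟩],
   !![⟨2, 1⟩, ⟨0, 0⟩, ⟨1, 1⟩; ⟨0, 0⟩, ⟨1, 0⟩, ⟨0, 0⟩; ⟨2, 1⟩, ⟨0, 0⟩, ⟨2, 2⟩],
   !![⟨0, 0⟩, ⟨1, 1⟩, ⟨2, 2⟩; ⟨0, 0⟩, ⟨1, 1⟩, ⟨1, 1⟩; ⟨0, 2⟩, ⟨0, 0⟩, ⟨0, 0⟩],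
   !![⟨0, 0⟩, ⟨0, 0⟩, ⟨2, 0⟩; ⟨1, 1⟩, ⟨1, 2⟩, ⟨0, 0⟩; ⟨1, 1⟩, ⟨2, 1⟩, ⟨0, 0⟩],
   !![⟨0, 0⟩, ⟨0, 0⟩, ⟨1, 0⟩; ⟨0, 0⟩, ⟨0, 1⟩, ⟨0, 0⟩; ⟨0, 1⟩, ⟨0, 0⟩, ⟨0, 0⟩],
   !![⟨0, 0⟩, ⟨1, 0⟩, ⟨0, 0⟩; ⟨0, 2⟩, ⟨0, 0⟩, ⟨0, 0⟩; ⟨0, 0⟩, ⟨0, 0⟩, ⟨0, 2⟩],
   !![⟨0, 0⟩, ⟨0, 2⟩, ⟨0, 0⟩; ⟨2, 1⟩, ⟨0, 0⟩, ⟨1, 2⟩; ⟨2, 1⟩, ⟨0, 0⟩, ⟨2, 1⟩],
   !![⟨0, 0⟩, ⟨0, 0⟩, ⟨0, 1⟩; ⟨2, 2⟩, ⟨2, 2⟩, ⟨0, 0⟩; ⟨2, 2⟩, ⟨1, 1⟩, ⟨0, 0⟩]]

def l35 : List (Matrix (Fin 3) (Fin 3) F25) :=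
  [!![⟨1, 0⟩, ⟨0, 0⟩, ⟨0, 0⟩; ⟨0, 0⟩, ⟨1, 0⟩, ⟨0, 0⟩; ⟨0, 0⟩, ⟨0, 0⟩, ⟨1, 0⟩],
   !![⟨3, 3⟩, ⟨0, 0⟩, ⟨0, 0⟩; ⟨0, 0⟩, ⟨0, 0⟩, ⟨3, 3⟩; ⟨0, 0⟩, ⟨3, 3⟩, ⟨0, 0⟩],
   !![⟨0, 0⟩, ⟨2, 2⟩, ⟨0, 0⟩; ⟨0, 0⟩, ⟨0, 0⟩, ⟨2, 3⟩; ⟨1, 0⟩, ⟨0, 0⟩, ⟨0, 0⟩],
   !![⟨1, 0⟩, ⟨0, 0⟩, ⟨0, 0⟩; ⟨0, 0⟩, ⟨0, 1⟩, ⟨4, 2⟩; ⟨0, 0⟩, ⟨1, 2⟩, ⟨0, 4⟩],
   !![⟨3, 0⟩, ⟨0, 0⟩, ⟨0, 3⟩; ⟨2, 1⟩, ⟨0, 0⟩, ⟨1, 1⟩; ⟨0, 0⟩, ⟨3, 2⟩, ⟨0, 0⟩],
   !![⟨1, 0⟩, ⟨0, 0⟩, ⟨0, 0⟩; ⟨0, 0⟩, ⟨1, 3⟩, ⟨1, 3⟩; ⟨0, 0⟩, ⟨4, 3⟩, ⟨1, 2⟩],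
   !![⟨0, 1⟩, ⟨1, 2⟩, ⟨0, 0⟩; ⟨0, 4⟩, ⟨1, 2⟩, ⟨0, 0⟩; ⟨0, 0⟩, ⟨0, 0⟩, ⟨3, 3⟩],
   !![⟨2, 4⟩, ⟨0, 0⟩, ⟨2, 0⟩; ⟨1, 1⟩, ⟨0, 0⟩, ⟨3, 1⟩; ⟨0, 0⟩, ⟨3, 2⟩, ⟨0, 0⟩],
   !![⟨0, 0⟩, ⟨0, 2⟩, ⟨1, 4⟩; ⟨3, 3⟩, ⟨0, 0⟩, ⟨0, 0⟩; ⟨0, 0⟩, ⟨2, 0⟩, ⟨3, 1⟩],
   !![⟨1, 4⟩, ⟨0, 2⟩, ⟨0, 0⟩; ⟨3, 1⟩, ⟨2, 0⟩, ⟨0, 0⟩; ⟨0, 0⟩, ⟨0, 0⟩, ⟨3, 3⟩],
   !![⟨2, 4⟩, ⟨1, 4⟩, ⟨0, 0⟩; ⟨3, 0⟩, ⟨0, 2⟩, ⟨0, 0⟩; ⟨0, 0⟩, ⟨0, 0⟩, ⟨3, 3⟩],
   !![⟨2, 3⟩, ⟨0, 0⟩, ⟨0, 0⟩; ⟨0, 0⟩, ⟨4, 4⟩, ⟨0, 2⟩; ⟨0, 0⟩, ⟨3, 4⟩, ⟨2, 0⟩]]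

def l43 : List (Matrix (Fin 4) (Fin 4) F9) :=
  [!![⟨1, 0⟩, ⟨0, 0⟩, ⟨0, 0⟩, ⟨0, 0⟩; ⟨0, 0⟩, ⟨1, 0⟩, ⟨0, 0⟩, ⟨0, 0⟩; ⟨0, 0⟩, ⟨0, 0⟩, ⟨1, 0⟩, ⟨0, 0⟩; ⟨0, 0⟩, ⟨0, 0⟩, ⟨0, 0⟩, ⟨1, 0⟩],
   !![⟨1, 0⟩, ⟨1, 0⟩, ⟨0, 0⟩, ⟨2, 1⟩; ⟨1, 0⟩, ⟨1, 0⟩, ⟨0, 0⟩, ⟨1, 2⟩; ⟨0, 0⟩, ⟨0, 0⟩, ⟨1, 0⟩, ⟨0, 0⟩; ⟨2, 2⟩, ⟨1, 1⟩, ⟨0, 0⟩, ⟨0, 0⟩],
   !![⟨0, 0⟩, ⟨1, 0⟩, ⟨0, 0⟩, ⟨0, 0⟩; ⟨0, 0⟩, ⟨0, 0⟩, ⟨0, 0⟩, ⟨2, 0⟩; ⟨0, 0⟩, ⟨0, 0⟩, ⟨2, 0⟩, ⟨0, 0⟩; ⟨1, 0⟩, ⟨0, 0⟩, ⟨0, 0⟩, ⟨0, 0⟩],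
   !![⟨0, 0⟩, ⟨0, 0⟩, ⟨1, 0⟩, ⟨0, 0⟩; ⟨0, 0⟩, ⟨0, 0⟩, ⟨0, 0⟩, ⟨2, 0⟩; ⟨0, 0⟩, ⟨2, 0⟩, ⟨0, 0⟩, ⟨0, 0⟩; ⟨2, 0⟩, ⟨0, 0⟩, ⟨0, 0⟩, ⟨0, 0⟩],
   !![⟨0, 0⟩, ⟨0, 0⟩, ⟨1, 0⟩, ⟨0, 0⟩; ⟨0, 0⟩, ⟨1, 0⟩, ⟨0, 0⟩, ⟨0, 0⟩; ⟨2, 0⟩, ⟨0, 0⟩, ⟨0, 0⟩, ⟨0, 0⟩; ⟨0, 0⟩, ⟨0, 0⟩, ⟨0, 0⟩, ⟨1, 0⟩],
   !![⟨0, 0⟩, ⟨0, 0⟩, ⟨1, 1⟩, ⟨1, 1⟩; ⟨1, 1⟩, ⟨2, 1⟩, ⟨0, 0⟩, ⟨0, 0⟩; ⟨1, 2⟩, ⟨2, 2⟩, ⟨0, 0⟩, ⟨0, 0⟩; ⟨0, 0⟩, ⟨0, 0⟩, ⟨2, 2⟩, ⟨1, 1⟩],
   !![⟨0, 0⟩, ⟨0, 2⟩, ⟨0, 0⟩, ⟨0, 0⟩; ⟨2, 1⟩, ⟨0, 0⟩, ⟨2, 2⟩, ⟨0, 0⟩; ⟨0, 0⟩, ⟨0, 0⟩, ⟨0, 0⟩, ⟨0, 2⟩; ⟨2, 1⟩, ⟨0, 0⟩, ⟨1, 1⟩, ⟨0, 0⟩],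
   !![⟨1, 2⟩, ⟨1, 1⟩, ⟨0, 0⟩, ⟨0, 0⟩; ⟨0, 0⟩, ⟨0, 0⟩, ⟨0, 0⟩, ⟨2, 0⟩; ⟨0, 0⟩, ⟨0, 0⟩, ⟨0, 2⟩, ⟨0, 0⟩; ⟨2, 2⟩, ⟨2, 1⟩, ⟨0, 0⟩, ⟨0, 0⟩],
   !![⟨0, 0⟩, ⟨0, 0⟩, ⟨0, 2⟩, ⟨0, 0⟩; ⟨1, 1⟩, ⟨1, 2⟩, ⟨0, 0⟩, ⟨0, 0⟩; ⟨1, 2⟩, ⟨1, 1⟩, ⟨0, 0⟩, ⟨0, 0⟩; ⟨0, 0⟩, ⟨0, 0⟩, ⟨0, 0⟩, ⟨1, 0⟩],
   !![⟨1, 1⟩, ⟨0, 0⟩, ⟨2, 1⟩, ⟨0, 0⟩; ⟨0, 0⟩, ⟨0, 0⟩, ⟨0, 0⟩, ⟨2, 0⟩; ⟨0, 0⟩, ⟨2, 0⟩, ⟨0, 0⟩, ⟨0, 0⟩; ⟨1, 1⟩, ⟨0, 0⟩, ⟨1, 2⟩, ⟨0, 0⟩],
   !![⟨0, 0⟩, ⟨2, 2⟩, ⟨0, 2⟩, ⟨1, 0⟩; ⟨0, 0⟩, ⟨0, 0⟩, ⟨2, 2⟩, ⟨2, 1⟩; ⟨0, 0⟩, ⟨2, 2⟩, ⟨0, 1⟩, ⟨2, 0⟩; ⟨0, 1⟩, ⟨0, 0⟩, ⟨0, 0⟩, ⟨0, 0⟩],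
   !![⟨0, 0⟩, ⟨0, 0⟩, ⟨2, 0⟩, ⟨0, 0⟩; ⟨2, 2⟩, ⟨2, 2⟩, ⟨0, 0⟩, ⟨0, 0⟩; ⟨1, 1⟩, ⟨2, 2⟩, ⟨0, 0⟩, ⟨0, 0⟩; ⟨0, 0⟩, ⟨0, 0⟩, ⟨0, 0⟩, ⟨0, 1⟩]]

def m8 : Matrix (Fin 5) (Fin 5) F4 :=
  !![⟨1, 0⟩, ⟨0, 0⟩, ⟨1, 0⟩, ⟨0, 0⟩, ⟨1, 0⟩; ⟨1, 0⟩, ⟨0, 0⟩, ⟨0, 1⟩, ⟨0, 0⟩, ⟨1, 1⟩; ⟨0, 0⟩, ⟨1, 0⟩, ⟨0, 0⟩, ⟨0, 0⟩, ⟨0, 0⟩; ⟨0, 1⟩, ⟨0, 0⟩, ⟨1, 0⟩, ⟨0, 0⟩, ⟨1, 1⟩; ⟨0, 0⟩, ⟨0, 0⟩, ⟨0, 0⟩, ⟨1, 1⟩, ⟨0, 0⟩]

def m11 : Matrix (Fin 5) (Fin 5) F4 :=
  !![⟨0, 0⟩, ⟨1, 0⟩, ⟨0, 0⟩, ⟨0, 0⟩, ⟨0, 0⟩; ⟨0, 0⟩, ⟨0, 0⟩, ⟨0, 0⟩, ⟨0, 1⟩, ⟨0, 0⟩; ⟨1, 0⟩, ⟨0, 0⟩, ⟨1, 1⟩, ⟨0, 0⟩, ⟨0, 1⟩; ⟨1, 1⟩, ⟨0, 0⟩, ⟨1, 0⟩, ⟨0, 0⟩, ⟨0, 1⟩; ⟨1, 0⟩, ⟨0, 0⟩, ⟨1, 0⟩, ⟨0, 0⟩, ⟨1, 0⟩]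

def m12 : Matrix (Fin 5) (Fin 5) F4 :=
  !![⟨0, 0⟩, ⟨0, 0⟩, ⟨0, 1⟩, ⟨0, 0⟩, ⟨0, 0⟩; ⟨1, 1⟩, ⟨0, 0⟩, ⟨0, 0⟩, ⟨0, 0⟩, ⟨0, 0⟩; ⟨0, 0⟩, ⟨0, 0⟩, ⟨0, 0⟩, ⟨0, 0⟩, ⟨0, 1⟩; ⟨0, 0⟩, ⟨0, 0⟩, ⟨0, 0⟩, ⟨1, 1⟩, ⟨0, 0⟩; ⟨0, 0⟩, ⟨1, 0⟩, ⟨0, 0⟩, ⟨0, 0⟩, ⟨0, 0⟩]

def m15 : Matrix (Fin 5) (Fin 5) F4 :=
  !![⟨0, 0⟩, ⟨0, 0⟩, ⟨0, 0⟩, ⟨0, 0⟩, ⟨1, 1⟩; ⟨0, 0⟩, ⟨0, 1⟩, ⟨1, 1⟩, ⟨1, 1⟩, ⟨0, 0⟩; ⟨1, 0⟩, ⟨0, 0⟩, ⟨0, 0⟩, ⟨0, 0⟩, ⟨0, 0⟩; ⟨0, 0⟩, ⟨1, 1⟩, ⟨0, 1⟩, ⟨1, 1⟩, ⟨0, 0⟩; ⟨0, 0⟩, ⟨1, 1⟩, ⟨1, 1⟩, ⟨0, 1⟩, ⟨0, 0⟩]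

def m18 : Matrix (Fin 5) (Fin 5) F4 :=
  !![⟨0, 0⟩, ⟨0, 0⟩, ⟨0, 1⟩, ⟨0, 0⟩, ⟨0, 0⟩; ⟨1, 1⟩, ⟨0, 0⟩, ⟨0, 0⟩, ⟨0, 0⟩, ⟨0, 0⟩; ⟨0, 0⟩, ⟨1, 1⟩, ⟨0, 0⟩, ⟨0, 0⟩, ⟨0, 0⟩; ⟨0, 0⟩, ⟨0, 0⟩, ⟨0, 0⟩, ⟨0, 0⟩, ⟨1, 1⟩; ⟨0, 0⟩, ⟨0, 0⟩, ⟨0, 0⟩, ⟨1, 1⟩, ⟨0, 0⟩]

theorem good33 : l33.all (good 3) = true := by (delta Cfsg.Agent.H674.Explicit.good; set_option synthInstance.maxSize 20000 in open scoped Cfsg.Agent.Lib.MatDec Cfsg.Agent.Lib.MatRng in (simp only [Cfsg.Agent.Lib.MatDec.sw_dec, Cfsg.Agent.Lib.MatDec.sw_ite, Cfsg.Agent.Lib.MatDec.sw_beq, Cfsg.Agent.Lib.MatDec.sw_bne]; decide +kernel))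

theorem nodup33 : (l33.map (inv [1, 2, 3, 4, 6, 7, 8])).Nodup := by (delta Cfsg.Agent.H674.Explicit.inv; set_option synthInstance.maxSize 20000 in open scoped Cfsg.Agent.Lib.MatDec Cfsg.Agent.Lib.MatRng in (simp only [Cfsg.Agent.Lib.MatDec.sw_dec, Cfsg.Agent.Lib.MatDec.sw_ite, Cfsg.Agent.Lib.MatDec.sw_beq, Cfsg.Agent.Lib.MatDec.sw_bne]; decide +kernel))

theorem good35 : l35.all (good 5) = true := by (delta Cfsg.Agent.H674.Explicit.good; set_option synthInstance.maxSize 20000 in open scoped Cfsg.Agent.Lib.MatDec Cfsg.Agent.Lib.MatRng in (simp only [Cfsg.Agent.Lib.MatDec.sw_dec, Cfsg.Agent.Lib.MatDec.sw_ite, Cfsg.Agent.Lib.MatDec.sw_beq, Cfsg.Agent.Lib.MatDec.sw_bne]; decide +kernel))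

/-- the elements of `F25` -/
def els25 : List F25 := (List.range 5).flatMap fun i => (List.range 5).map fun j => ⟨i, j⟩

theorem mem_els25 (c : F25) : c ∈ els25 := by
  revert c; decide +kernel

/-- invariants for `PSU_3(5)` -/
def inv35 (M : Matrix (Fin 3) (Fin 3) F25) : F25 × Bool × List Bool :=
  (M.trace ^ 3, uni2 els25 M, exps [1, 2, 3, 4, 5, 6, 7, 8] M)

theorem nodup35 : (l35.map inv35).Nodup := by (delta inv35 Cfsg.Agent.H674.Explicit.uni2 Cfsg.Agent.H674.Explicit.exps Cfsg.Agent.H674.Explicit.isSc; set_option synthInstance.maxSize 20000 in open scoped Cfsg.Agent.Lib.MatDec Cfsg.Agent.Lib.MatRng in (simp only [Cfsg.Agent.Lib.MatDec.sw_dec, Cfsg.Agent.Lib.MatDec.sw_ite, Cfsg.Agent.Lib.MatDec.sw_beq, Cfsg.Agent.Lib.MatDec.sw_bne]; decide +kernel))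

theorem good43 : l43.all (good 3) = true := by (delta Cfsg.Agent.H674.Explicit.good; set_option synthInstance.maxSize 20000 in open scoped Cfsg.Agent.Lib.MatDec Cfsg.Agent.Lib.MatRng in (simp only [Cfsg.Agent.Lib.MatDec.sw_dec, Cfsg.Agent.Lib.MatDec.sw_ite, Cfsg.Agent.Lib.MatDec.sw_beq, Cfsg.Agent.Lib.MatDec.sw_bne]; decide +kernel))

/-- invariants for `PSU_4(3)` -/
def inv43 (M : Matrix (Fin 4) (Fin 4) F9) : F9 × F9 × F9 × List Bool :=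
  (M.trace ^ 4, M.trace ^ 2 * (M.trace ^ 2 - (M * M).trace), (M.trace ^ 2 - (M * M).trace) ^ 2,
    exps [1, 2, 3, 4, 5, 6, 7, 8, 9] M)

theorem nodup43 : (l43.map inv43).Nodup := by (delta inv43 Cfsg.Agent.H674.Explicit.exps Cfsg.Agent.H674.Explicit.isSc; set_option synthInstance.maxSize 20000 in open scoped Cfsg.Agent.Lib.MatDec Cfsg.Agent.Lib.MatRng in (simp only [Cfsg.Agent.Lib.MatDec.sw_dec, Cfsg.Agent.Lib.MatDec.sw_ite, Cfsg.Agent.Lib.MatDec.sw_beq, Cfsg.Agent.Lib.MatDec.sw_bne]; decide +kernel))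

theorem good52 : good 2 m8 = true ∧ good 2 m11 = true ∧ good 2 m12 = true ∧ good 2 m15 = true ∧ good 2 m18 = true := by
  (delta Cfsg.Agent.H674.Explicit.good; set_option synthInstance.maxSize 20000 in open scoped Cfsg.Agent.Lib.MatDec Cfsg.Agent.Lib.MatRng in (simp only [Cfsg.Agent.Lib.MatDec.sw_dec, Cfsg.Agent.Lib.MatDec.sw_ite, Cfsg.Agent.Lib.MatDec.sw_beq, Cfsg.Agent.Lib.MatDec.sw_bne]; decide +kernel))

private theorem ordF {K : Type} [Field K] [DecidableEq K] {n : ℕ} (M : Matrix (Fin n) (Fin n) K) (N : ℕ) :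
    ordIs M N = (decide (M ^ N = 1) && (List.range N).all fun m => Nat.beq m 0 || !decide (M ^ m = 1)) := by
  rw [ordIs, Bool.eq_iff_iff]
  simp only [Bool.and_eq_true, decide_eq_true_eq, List.all_eq_true, List.mem_range, Bool.or_eq_true, Nat.beq_eq, Bool.not_eq_true',
    decide_eq_false_iff_not]
  exact and_congr_right fun _ => forall₂_congr fun m _ => ⟨fun h => (Nat.eq_zero_or_pos m).imp_right h, fun h h0 => h.resolve_left h0.ne'⟩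

theorem ord52 : ordIs m8 8 = true ∧ ordIs m11 11 = true ∧ ordIs m12 12 = true ∧ ordIs m15 15 = true ∧
    ordIs m18 18 = true := by
  (simp only [ordF]; set_option synthInstance.maxSize 20000 in open scoped Cfsg.Agent.Lib.MatDec Cfsg.Agent.Lib.MatRng in (simp only [Cfsg.Agent.Lib.MatDec.sw_dec, Cfsg.Agent.Lib.MatDec.sw_ite, Cfsg.Agent.Lib.MatDec.sw_beq, Cfsg.Agent.Lib.MatDec.sw_bne]; decide +kernel))

end Cfsg.Agent.H674.ExplicitCases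
end

private theorem dce_20a57363c800 : _root_.True := by
  try have : _root_.True := by simp only [_root_.Cfsg.Agent.H674.Explicit.isSc.eq_1]
  try have : _root_.True := by simp only [_root_.Cfsg.Agent.H674.Explicit.ordIs.eq_1]
  try have : _root_.True := by simp only [_root_.Cfsg.Agent.H674.Explicit.good.eq_1]
  try have : _root_.True := by simp only [_root_.Cfsg.Agent.H674.Explicit.uni2.eq_1]
  exact _root_.True.intro
end

-- part: H674/TwelvePSU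
section
prune_inst 0x3000000000000000000000000000000000000000200000000001000280400940020000020026220000000000000000000000000000000000000200000008000400000100200000000000000000000000000000000000000000000000000000000
set_option linter.all false
open scoped Cfsg.Agent.FastGrp

-- part: H674/SteinbergSU
section
/-!
# A Steinberg cross-section for `SU_3(q)` and `SU_4(q)`

For the antidiagonal Hermitian form there are explicit matrices with characteristic polynomials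
`X³ - t X² + t̄ X - 1` (`t ∈ F`) and `X⁴ - t X³ + a X² - t̄ X + 1` (`t ∈ F`, `a ∈ F_q`). Hence
`q² ≤ k(SU_n(q))` for `n ≥ 3` and `q³ ≤ k(SU_n(q))` for `n ≥ 4`.
-/

set_option autoImplicit false
open Cfsg

namespace Cfsg.Agent.H674.SteinbergSU

open Matrix Polynomial Cfsg.Agent.H92 Cfsg.Agent.LieClassical Cfsg.Agent.H674.SUTools Cfsg.Agent.H674.SUBlock

variable {F : Type*} [Field F] [Fintype F] {n q : ℕ}

theorem isom_of_frame (hF : Fintype.card F = q ^ 2) {P J M Q : Matrix (Fin n) (Fin n) F} (hPQ : P * Q = 1)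
    (hPJ : Pᵀ * P.map (GUOrder.frob hF) = J) (hM : Mᵀ * J * M.map (GUOrder.frob hF) = J) :
    (P * M * Q)ᵀ * (P * M * Q).map (GUOrder.frob hF) = 1 := by
  set s := GUOrder.frob hF
  have h1 : (P * M * Q).map s = P.map s * M.map s * Q.map s := by
    rw [Matrix.map_mul, Matrix.map_mul]
  have h2 : (P * M * Q)ᵀ = Qᵀ * Mᵀ * Pᵀ := by
    rw [Matrix.transpose_mul, Matrix.transpose_mul, mul_assoc]
  have h3 : P.map s * Q.map s = 1 := by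
    rw [← Matrix.map_mul, hPQ, Matrix.map_one _ (map_zero _) (map_one _)]
  have h4 : Qᵀ * Pᵀ = 1 := by rw [← Matrix.transpose_mul, hPQ, Matrix.transpose_one]
  calc (P * M * Q)ᵀ * (P * M * Q).map s = Qᵀ * (Mᵀ * (Pᵀ * P.map s) * M.map s) * Q.map s := by
        rw [h1, h2]; simp only [mul_assoc]
    _ = Qᵀ * (Pᵀ * P.map s) * Q.map s := by rw [hPJ, hM]
    _ = (Qᵀ * Pᵀ) * (P.map s * Q.map s) := by simp only [mul_assoc]
    _ = 1 := by rw [h3, h4, one_mul]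

/-- an invertible Gram matrix gives an invertible frame -/
theorem exists_inv (hF : Fintype.card F = q ^ 2) {P J : Matrix (Fin n) (Fin n) F} (hJ : J * J = 1)
    (hPJ : Pᵀ * P.map (GUOrder.frob hF) = J) : ∃ Q, P * Q = 1 ∧ Q * P = 1 := by
  have h1 : Pᵀ * (P.map (GUOrder.frob hF) * J) = 1 := by rw [← mul_assoc, hPJ, hJ]
  have h2 := congrArg Matrix.transpose h1
  rw [Matrix.transpose_mul, Matrix.transpose_transpose, Matrix.transpose_one] at h2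
  exact ⟨_, mul_eq_one_comm.1 h2, h2⟩

/-- the element of `SU_n(q)` belonging to an isometry of another form -/
theorem exists_elt (hF : Fintype.card F = q ^ 2) {P J M : Matrix (Fin n) (Fin n) F} (hJ : J * J = 1)
    (hPJ : Pᵀ * P.map (GUOrder.frob hF) = J) (hM : Mᵀ * J * M.map (GUOrder.frob hF) = J) (hdet : M.det = 1) :
    ∃ x : Cfsg.SU n F q, (cm x).charpoly = M.charpoly := by
  obtain ⟨Q, h1, h2⟩ := exists_inv hF hJ hPJ
  refine ⟨mkSU hF (P * M * Q) ?_ (isom_of_frame hF h1 hPJ hM), ?_⟩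
  · rw [Matrix.det_mul, Matrix.det_mul, hdet, mul_one, ← Matrix.det_mul, h1, Matrix.det_one]
  · rw [cm_mkSU, Matrix.charpoly_mul_comm, ← mul_assoc, h2, one_mul]

/-- the antidiagonal matrices -/
def J3 (F : Type*) [Field F] : Matrix (Fin 3) (Fin 3) F := !![0, 0, 1; 0, 1, 0; 1, 0, 0]

def J4 (F : Type*) [Field F] : Matrix (Fin 4) (Fin 4) F := !![0, 0, 0, 1; 0, 0, 1, 0; 0, 1, 0, 0; 1, 0, 0, 0]

omit [Fintype F] in
theorem J3_mul : J3 F * J3 F = 1 := by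
  ext i j
  (revert i j; simp only [J3, Matrix.mul_apply, Fin.sum_univ_succ, _root_.Fin.forall_fin_succ, _root_.Matrix.of_apply, _root_.Matrix.cons_val', _root_.Matrix.cons_val_fin_one, Fin.isValue, _root_.Matrix.cons_val_zero, _root_.Matrix.cons_val_succ, _root_.Finset.univ_unique, _root_.Fin.default_eq_zero, _root_.Finset.sum_const, _root_.Finset.card_singleton, _root_.one_smul, _root_.MulZeroClass.mul_zero, _root_.mul_one, _root_.zero_add, _root_.add_zero, _root_.IsEmpty.forall_iff, _root_.and_true, _root_.Matrix.one_apply_eq, Nat.reduceAdd, _root_.Fin.succ_zero_eq_one, _root_.ne_eq, _root_.zero_ne_one, _root_.not_false_eq_true, _root_.Matrix.one_apply_ne, _root_.Fin.succ_one_eq_two, Fin.reduceEq, _root_.and_self, _root_.Fin.succ_ne_zero, _root_.true_and])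

omit [Fintype F] in
theorem J4_mul : J4 F * J4 F = 1 := by
  ext i j
  (revert i j; simp only [J4, Matrix.mul_apply, Fin.sum_univ_succ, _root_.Fin.forall_fin_succ, _root_.Matrix.of_apply, _root_.Matrix.cons_val', _root_.Matrix.cons_val_fin_one, Fin.isValue, _root_.Matrix.cons_val_zero, _root_.Matrix.cons_val_succ, _root_.Finset.univ_unique, _root_.Fin.default_eq_zero, _root_.Finset.sum_const, _root_.Finset.card_singleton, _root_.one_smul, _root_.MulZeroClass.mul_zero, _root_.mul_one, _root_.zero_add, _root_.add_zero, _root_.IsEmpty.forall_iff, _root_.and_true, _root_.Matrix.one_apply_eq, Nat.reduceAdd, _root_.Fin.succ_zero_eq_one, _root_.ne_eq, _root_.zero_ne_one, _root_.not_false_eq_true, _root_.Matrix.one_apply_ne, _root_.Fin.succ_one_eq_two, Fin.reduceEq, Fin.reduceSucc, _root_.and_self, _root_.Fin.succ_ne_zero, _root_.true_and])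

/-- a hyperbolic pair `(1, c), (α, δ)` of the form `u₁ v̄₁ + u₂ v̄₂` -/
theorem exists_hyp (hF : Fintype.card F = q ^ 2) : ∃ c α δ : F, c * GUOrder.frob hF c = -1 ∧
    GUOrder.frob hF α + c * GUOrder.frob hF δ = 1 ∧ α + GUOrder.frob hF c * δ = 1 ∧
    α * GUOrder.frob hF α + δ * GUOrder.frob hF δ = 0 := by
  obtain ⟨c, hc⟩ := HermBasic.exists_norm_eq hF (c := -1) (by
    rw [HermBasic.neg_pow_q hF, one_pow])
  obtain ⟨z, hz, hz1⟩ := GUOrder.exists_norm_one hF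
  have hz' : z * GUOrder.frob hF z = 1 := by
    rw [GUOrder.frob_apply, ← pow_succ', hz]
  have hc' : c * GUOrder.frob hF c = -1 := hc
  set s := GUOrder.frob hF
  have h1 : 1 - z ≠ 0 := sub_ne_zero.2 (Ne.symm hz1)
  have h2 : 1 - s z ≠ 0 := by
    intro h
    apply h1
    apply s.injective
    rw [map_sub, map_one, h, map_zero]
  refine ⟨c, (1 - z)⁻¹, (1 - z)⁻¹ * (z * c), hc', ?_, ?_, ?_⟩
  · simp only [map_mul, map_inv₀, map_sub, map_one]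
    field_simp
    linear_combination (s z) * hc'
  · field_simp
    linear_combination z * hc'
  · simp only [map_mul, map_inv₀, map_sub, map_one]
    field_simp
    linear_combination (z * s z) * hc' + (-1) * hz'

theorem exists_frame3 (hF : Fintype.card F = q ^ 2) :
    ∃ P : Matrix (Fin 3) (Fin 3) F, Pᵀ * P.map (GUOrder.frob hF) = J3 F := by
  obtain ⟨c, α, δ, h1, h2, h3, h4⟩ := exists_hyp hF
  refine ⟨!![1, 0, α; c, 0, δ; 0, 1, 0], ?_⟩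
  ext i j
  (revert i j; simp only [J3, Matrix.mul_apply, Fin.sum_univ_succ, h1, h2, h4, _root_.Fin.forall_fin_succ, _root_.Matrix.transpose_apply, _root_.Matrix.of_apply, _root_.Matrix.cons_val', _root_.Matrix.cons_val_fin_one, _root_.Matrix.map_apply, Fin.isValue, _root_.Matrix.cons_val_zero, _root_.Matrix.cons_val_succ, _root_.Finset.univ_unique, _root_.Fin.default_eq_zero, _root_.Finset.sum_const, _root_.Finset.card_singleton, _root_.one_smul, _root_.map_one, _root_.mul_one, _root_.map_zero, _root_.MulZeroClass.mul_zero, _root_.add_zero, _root_.zero_add, _root_.forall_const, _root_.add_neg_cancel, _root_.one_mul, _root_.MulZeroClass.zero_mul, _root_.and_true, _root_.true_and]) <;> (repeat' with_reducible apply And.intro)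
  linear_combination h3

theorem exists_frame4 (hF : Fintype.card F = q ^ 2) :
    ∃ P : Matrix (Fin 4) (Fin 4) F, Pᵀ * P.map (GUOrder.frob hF) = J4 F := by
  obtain ⟨c, α, δ, h1, h2, h3, h4⟩ := exists_hyp hF
  refine ⟨!![1, 0, 0, α; c, 0, 0, δ; 0, 1, α, 0; 0, c, δ, 0], ?_⟩
  ext i j
  (revert i j; simp only [J4, Matrix.mul_apply, Fin.sum_univ_succ, h1, h2, h4, _root_.Fin.forall_fin_succ, _root_.Matrix.transpose_apply, _root_.Matrix.of_apply, _root_.Matrix.cons_val', _root_.Matrix.cons_val_fin_one, _root_.Matrix.map_apply, Fin.isValue, _root_.Matrix.cons_val_zero, _root_.Matrix.cons_val_succ, _root_.Finset.univ_unique, _root_.Fin.default_eq_zero, _root_.Finset.sum_const, _root_.Finset.card_singleton, _root_.one_smul, _root_.map_one, _root_.mul_one, _root_.map_zero, _root_.MulZeroClass.mul_zero, _root_.add_zero, _root_.zero_add, _root_.forall_const, _root_.add_neg_cancel,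 _root_.MulZeroClass.zero_mul, _root_.one_mul, _root_.and_true, _root_.true_and]) <;> (repeat' with_reducible apply And.intro)
  · linear_combination h3
  · linear_combination h3

/-- three dimensional cross-section -/
theorem exists_three (hF : Fintype.card F = q ^ 2) (t : F) :
    ∃ x : Cfsg.SU 3 F q, (cm x).charpoly = X ^ 3 - C t * X ^ 2 + C (GUOrder.frob hF t) * X - 1 := by
  obtain ⟨P, hP⟩ := exists_frame3 hF
  set s := GUOrder.frob hF with hs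
  have hss : ∀ x, s (s x) = x := GUOrder.frob_frob hF
  obtain ⟨a, ha⟩ := HermBasic.exists_norm_eq hF (c := -((t + 1) + s (t + 1))) (by
    show s _ = _
    rw [map_neg, map_add, hss, add_comm])
  have ha' : a * s a = -((t + 1) + s (t + 1)) := ha
  rw [map_add, map_one] at ha'
  obtain ⟨x, hx⟩ := exists_elt hF (M := !![t + 1, -a, 1; -s a, -1, 0; 1, 0, 0]) J3_mul hP (by
    rw [← hs]
    ext i j
    (revert i j; simp only [J3, Matrix.mul_apply, Fin.sum_univ_succ, hss, _root_.Fin.forall_fin_succ, _root_.Matrix.transpose_apply, _root_.Matrix.of_apply, _root_.Matrix.cons_val', _root_.Matrix.cons_val_fin_one, Fin.isValue, _root_.Matrix.cons_val_zero, _root_.Matrix.cons_val_succ, _root_.Finset.univ_unique, _root_.Fin.default_eq_zero, _root_.Finset.sum_const, _root_.Finset.card_singleton, _root_.one_smul, _root_.Matrix.map_apply, _root_.MulZeroClass.mul_zero, _root_.mul_one,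 _root_.zero_add, _root_.add_zero, _root_.map_add, _root_.map_one, _root_.map_neg, _root_.mul_neg, _root_.map_zero, _root_.forall_const, _root_.one_mul, _root_.neg_mul, _root_.neg_neg, _root_.neg_add_cancel, _root_.MulZeroClass.zero_mul, _root_.add_neg_cancel, _root_.neg_zero, _root_.implies_true, _root_.and_true, _root_.true_and]) <;> (repeat' with_reducible apply And.intro)
    linear_combination ha') (by
    rw [Matrix.det_fin_three]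
    simp)
  refine ⟨x, ?_⟩
  rw [hx, Matrix.charpoly, Matrix.charmatrix, Matrix.det_fin_three]
  simp only [Matrix.diagonal, Matrix.of_apply, _root_.Matrix.scalar_apply, _root_.RingHom.mapMatrix_apply, _root_.Fin.isValue, _root_.Matrix.sub_apply, ↓ _root_.reduceIte, _root_.Matrix.map_apply, _root_.Matrix.cons_val', _root_.Matrix.cons_val_zero, _root_.Matrix.cons_val_fin_one, _root_.map_add, _root_.map_one, _root_.Matrix.cons_val_one, _root_.map_neg, _root_.sub_neg_eq_add, _root_.Matrix.cons_val, _root_.map_zero, _root_.sub_zero, _root_.Fin.reduceEq, _root_.sub_self, _root_.MulZeroClass.mul_zero, _root_.zero_ne_one, _root_.zero_add, _root_.one_ne_zero, _root_.zero_sub, _root_.mul_neg, _root_.mul_one, _root_.neg_zero, _root_.add_zero, _root_.neg_mul, _root_.one_mul, _root_.neg_add_rev, _root_.neg_neg]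
  have h5 : (C a * C (s a) : F[X]) = -((C t + 1) + (C (s t) + 1)) := by
    rw [← C_mul, ha']
    simp only [_root_.neg_add_rev, _root_.map_add, _root_.map_neg, _root_.map_one]
  linear_combination (-X : F[X]) * h5

/-- four dimensional cross-section -/
theorem exists_four (hF : Fintype.card F = q ^ 2) (t a : F) (ha : GUOrder.frob hF a = a) :
    ∃ x : Cfsg.SU 4 F q, (cm x).charpoly =
      X ^ 4 - C t * X ^ 3 + C a * X ^ 2 - C (GUOrder.frob hF t) * X + 1 := by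
  obtain ⟨P, hP⟩ := exists_frame4 hF
  obtain ⟨i0, hi0, hi1⟩ := HermBasic.exists_trace_zero_ne hF
  set s := GUOrder.frob hF with hs
  have hss : ∀ x, s (s x) = x := GUOrder.frob_frob hF
  have hi : s i0 = -i0 := by
    have : s i0 = i0 ^ q := rfl
    rw [this]
    linear_combination hi1
  obtain ⟨x, hx⟩ := exists_elt hF
    (M := !![t, -a, i0⁻¹, 0; 1, 0, 0, 0; 0, s t * i0, 0, 1; 0, -i0, 0, 0]) J4_mul hP (by
    rw [← hs]
    ext i j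
    fin_cases i <;> fin_cases j <;>
      simp only [J4, Matrix.mul_apply, Fin.sum_univ_succ, hss, ha, hi, hi0, _root_.Fin.zero_eta, _root_.Fin.isValue, _root_.Matrix.transpose_apply, _root_.Matrix.of_apply, _root_.Matrix.cons_val', _root_.Matrix.cons_val_zero, _root_.Matrix.cons_val_fin_one, _root_.Matrix.cons_val_succ, _root_.one_mul, _root_.MulZeroClass.zero_mul, _root_.Finset.univ_unique, _root_.Fin.default_eq_zero, _root_.Finset.sum_const_zero, _root_.add_zero, _root_.Matrix.map_apply, _root_.MulZeroClass.mul_zero, _root_.map_one, _root_.mul_one, _root_.zero_add, _root_.map_zero, _root_.Fin.mk_one, _root_.Matrix.cons_val_one, _root_.map_neg, _root_.mul_neg, _root_.neg_zero, _root_.map_mul, _root_.neg_neg, _root_.Finset.sum_const, _root_.Finset.card_singleton, _root_.one_smul, _root_.neg_add_cancel, _root_.Fin.reduceFinMk, _root_.Matrix.cons_val, _root_.map_inv₀,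 _root_.inv_neg, _root_.neg_mul, _root_.Finset.sum_neg_distrib, _root_.ne_eq, _root_.not_false_eq_true, _root_.mul_inv_cancel₀, _root_.inv_mul_cancel₀]
    · ring
    · ring) (by
    simp only [Matrix.det_succ_row_zero, Fin.sum_univ_succ, Fin.succAbove, hi0, _root_.Nat.succ_eq_add_one, _root_.Nat.reduceAdd, _root_.Fin.isValue, _root_.Matrix.of_apply, _root_.Matrix.cons_val', _root_.Matrix.cons_val_fin_one, _root_.Matrix.cons_val_zero, _root_.Matrix.submatrix_apply, _root_.Fin.succ_zero_eq_one, _root_.Matrix.cons_val_one, _root_.Matrix.submatrix_submatrix, _root_.Function.comp_apply, _root_.Fin.succ_one_eq_two, _root_.Matrix.cons_val, _root_.Matrix.det_unique, _root_.Fin.default_eq_zero, _root_.Fin.reduceSucc, _root_.Fin.castSucc_zero, _root_.Fin.coe_ofNat_eq_mod, _root_.Nat.zero_mod, _root_.pow_zero, _root_.one_mul, _root_.lt_self_iff_false, ↓ _root_.reduceIte,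 _root_.Fin.castSucc_one, _root_.Finset.univ_unique, _root_.Fin.val_succ, _root_.Fin.val_eq_zero, _root_.zero_add, _root_.pow_one, _root_.Fin.castSucc_succ, _root_.neg_mul, _root_.Fin.succ_pos, _root_.Finset.sum_neg_distrib, _root_.Finset.sum_singleton, _root_.not_lt_zero, _root_.Fin.reduceCastSucc, _root_.even_two, _root_.Even.neg_pow, _root_.one_pow, _root_.Fin.reduceLT, _root_.MulZeroClass.mul_zero, _root_.neg_zero, _root_.add_zero, _root_.mul_neg, _root_.neg_neg, _root_.MulZeroClass.zero_mul, _root_.Matrix.cons_val_succ, _root_.Fin.lt_one_iff, _root_.Fin.reduceEq, _root_.ne_eq, _root_.not_false_eq_true, _root_.inv_mul_cancel₀, _root_.Finset.sum_const_zero])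
  refine ⟨x, ?_⟩
  have h6 : (C i0⁻¹ * C i0 : F[X]) = 1 := by
    rw [← C_mul, inv_mul_cancel₀ hi0, C_1]
  rw [hx, Matrix.charpoly, Matrix.charmatrix]
  simp only [Matrix.det_succ_row_zero, Fin.sum_univ_succ, Fin.succAbove, Matrix.diagonal, Matrix.of_apply, _root_.Matrix.scalar_apply, _root_.RingHom.mapMatrix_apply, _root_.Nat.succ_eq_add_one, _root_.Nat.reduceAdd, _root_.Fin.isValue, _root_.Matrix.sub_apply, _root_.Matrix.map_apply, _root_.Matrix.cons_val', _root_.Matrix.cons_val_fin_one, _root_.Matrix.cons_val_zero, _root_.Matrix.submatrix_apply, _root_.Fin.succ_zero_eq_one, _root_.Matrix.cons_val_one, _root_.Matrix.submatrix_submatrix, _root_.Function.comp_apply, _root_.Fin.succ_one_eq_two, _root_.Matrix.cons_val, _root_.Matrix.det_unique, _root_.Fin.default_eq_zero, _root_.Fin.reduceSucc, _root_.Fin.castSucc_zero, _root_.Fin.coe_ofNat_eq_mod, _root_.Nat.zero_mod,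 _root_.pow_zero, _root_.one_mul, _root_.lt_self_iff_false, ↓ _root_.reduceIte, _root_.Fin.castSucc_one, _root_.Finset.univ_unique, _root_.Fin.val_succ, _root_.Fin.val_eq_zero, _root_.zero_add, _root_.pow_one, _root_.Fin.castSucc_succ, _root_.neg_mul, _root_.neg_sub, _root_.Fin.succ_pos, _root_.Finset.sum_singleton, _root_.right_eq_ite_iff, _root_.one_ne_zero, _root_.imp_false, _root_.not_lt, _root_.nonpos_iff_eq_zero, _root_.Fin.reduceEq, _root_.not_lt_zero, _root_.Fin.reduceCastSucc, _root_.left_eq_ite_iff, _root_.not_le, _root_.even_two, _root_.Even.neg_pow, _root_.one_pow, _root_.Fin.reduceLT, _root_.map_zero, _root_.sub_zero, _root_.zero_le, _root_.map_one, _root_.sub_self, _root_.MulZeroClass.mul_zero, _root_.add_zero, _root_.map_mul, _root_.zero_sub, _root_.map_neg, _root_.sub_neg_eq_add, _root_.MulZeroClass.zero_mul, _root_.Polynomial.X_mul_C, _root_.mul_neg,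 _root_.neg_zero, _root_.Matrix.cons_val_succ, _root_.Fin.succ_ne_zero, _root_.neg_add_rev, _root_.zero_ne_one, _root_.Fin.lt_one_iff, _root_.Std.le_refl, _root_.Fin.reduceLE, _root_.neg_neg, _root_.mul_ite, _root_.ite_mul]
  linear_combination (1 - C (s t) * X) * h6

theorem sq_le_three (hF : Fintype.card F = q ^ 2) (k : ℕ) :
    q ^ 2 ≤ Nat.card (ConjClasses (Cfsg.SU (3 + k) F q)) := by
  classical
  choose f hf using fun t : F => exists_three hF t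
  have h1 := KTools.card_le_of_inj (G := Cfsg.SU (3 + k) F q) (fun t : F => _root_.Cfsg.Agent.H674.SUBlock.ext hF k (f t)) ?_
  · rwa [Nat.card_eq_fintype_card, hF] at h1
  · intro t t' h
    have h2 := charpoly_of_isConj_ext hF h
    rw [hf, hf] at h2
    have h3 := congrArg (fun p => p.coeff 2) h2
    simp only [coeff_one, _root_.Polynomial.coeff_sub, _root_.Polynomial.coeff_add, _root_.Polynomial.coeff_X_pow, _root_.Nat.reduceEqDiff, ↓ _root_.reduceIte, _root_.Polynomial.coeff_C_mul, _root_.mul_one, _root_.zero_sub, _root_.Polynomial.coeff_mul_X, _root_.Polynomial.coeff_C_succ, _root_.add_zero, _root_.OfNat.ofNat_ne_zero, _root_.sub_zero, _root_.neg_inj] at h3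
    exact h3

theorem cube_le_four (hF : Fintype.card F = q ^ 2) (k : ℕ) :
    q ^ 3 ≤ Nat.card (ConjClasses (Cfsg.SU (4 + k) F q)) := by
  classical
  choose f hf using fun p : F × {a : F // a ^ q = a} => exists_four hF p.1 p.2.1 p.2.2
  have h1 := KTools.card_le_of_inj (G := Cfsg.SU (4 + k) F q)
    (fun p : F × {a : F // a ^ q = a} => _root_.Cfsg.Agent.H674.SUBlock.ext hF k (f p)) ?_
  · rw [Nat.card_prod, Nat.card_eq_fintype_card, hF, HermBasic.card_fixed hF] at h1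
    rwa [pow_succ]
  · intro p p' h
    have h2 := charpoly_of_isConj_ext hF h
    rw [hf, hf] at h2
    have h3 := congrArg (fun p => p.coeff 3) h2
    have h4 := congrArg (fun p => p.coeff 2) h2
    simp only [coeff_one, _root_.Polynomial.coeff_add, _root_.Polynomial.coeff_sub, _root_.Polynomial.coeff_X_pow, _root_.Nat.reduceEqDiff, ↓ _root_.reduceIte, _root_.Polynomial.coeff_C_mul, _root_.mul_one, _root_.zero_sub, _root_.Nat.succ_ne_self, _root_.MulZeroClass.mul_zero, _root_.add_zero, _root_.Polynomial.coeff_mul_X, _root_.Polynomial.coeff_C_succ, _root_.sub_zero, _root_.OfNat.ofNat_ne_zero, _root_.neg_inj, _root_.sub_self, _root_.zero_add] at h3 h4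
    exact Prod.ext h3 (Subtype.ext h4)

end Cfsg.Agent.H674.SteinbergSU
end

-- part: H674/TwelvePSU
section
/-!
# `12 ≤ k(PSU_n(q))` for `n ≥ 3`, `(n, q) ≠ (3, 2)`
-/

set_option autoImplicit false
open Cfsg

namespace Cfsg.Agent.H674.TwelvePSU

open Matrix Cfsg.Agent.H92 Cfsg.Agent.LieClassical Cfsg.Agent.H674.SUTools Cfsg.Agent.H674.SUBlock
open Cfsg.Agent.H674.Explicit Cfsg.Agent.H674.ExplicitCases

theorem h4 : Fintype.card F4 = 2 ^ 2 := card_QF 2 1 1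
theorem h9 : Fintype.card F9 = 3 ^ 2 := card_QF 3 2 0
theorem h25 : Fintype.card F25 = 5 ^ 2 := card_QF 5 2 0

theorem psu33 (F : Type) [Field F] [Fintype F] (hF : Fintype.card F = 3 ^ 2) :
    12 ≤ Nat.card (ConjClasses (Cfsg.PSU 3 F 3)) := by
  rw [KTools.card_classes_congr (FieldTransfer.psuCongr 3 3 (FiniteField.ringEquivOfCardEq (hF.trans h9.symm)))]
  have h1 := card_classes_le (F := F9) (n := 3) (q := 3) h9 le_rfl
  have h2 := length_le_SU (n := 3) (q := 3) h9 (_root_.Cfsg.Agent.H674.Explicit.inv [1, 2, 3, 4, 6, 7, 8]) (inv_conj _) l33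
    (fun M hM => List.all_eq_true.1 good33 M hM) nodup33
  have h3 : Nat.gcd 3 (3 + 1) = 1 := by norm_num
  have h5 : l33.length = 12 := rfl
  rw [h3, one_mul] at h1
  rw [h5] at h2
  exact h2.trans h1

theorem psu35 (F : Type) [Field F] [Fintype F] (hF : Fintype.card F = 5 ^ 2) :
    12 ≤ Nat.card (ConjClasses (Cfsg.PSU 3 F 5)) := by
  rw [KTools.card_classes_congr (FieldTransfer.psuCongr 3 5 (FiniteField.ringEquivOfCardEq (hF.trans h25.symm)))]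
  have h2 := length_le_PSU (n := 3) (q := 5) h25 le_rfl inv35 (fun P Q M h1 h2 => ?_) (fun c M h1 h2 => ?_) l35
    (fun M hM => List.all_eq_true.1 good35 M hM) nodup35
  · exact h2
  · unfold inv35
    rw [_root_.Cfsg.Agent.H674.Explicit.trace_conj h2, uni2_conj mem_els25 h1 h2, exps_conj _ h1 h2]
  · have hc : c ≠ 0 := by
      rintro rfl
      norm_num at h1
    unfold inv35
    rw [uni2_smul mem_els25 hc, exps_smul _ hc, Matrix.trace_smul, smul_eq_mul, mul_pow, h1, one_mul]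

theorem psu43 (F : Type) [Field F] [Fintype F] (hF : Fintype.card F = 3 ^ 2) :
    12 ≤ Nat.card (ConjClasses (Cfsg.PSU 4 F 3)) := by
  rw [KTools.card_classes_congr (FieldTransfer.psuCongr 4 3 (FiniteField.ringEquivOfCardEq (hF.trans h9.symm)))]
  have h2 := length_le_PSU (n := 4) (q := 3) h9 (by norm_num) inv43 (fun P Q M h1 h2 => ?_)
    (fun c M h1 h2 => ?_) l43 (fun M hM => List.all_eq_true.1 good43 M hM) nodup43
  · exact h2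
  · have h3 : P * M * Q * (P * M * Q) = P * (M * M) * Q := by
      have := conj_pow' (M := M) h1 h2 2
      rwa [pow_two, pow_two] at this
    unfold inv43
    rw [h3, _root_.Cfsg.Agent.H674.Explicit.trace_conj h2, _root_.Cfsg.Agent.H674.Explicit.trace_conj h2, exps_conj _ h1 h2]
  · have hc : c ≠ 0 := by
      rintro rfl
      norm_num at h1
    have h3 : (c • M).trace = c * M.trace := by rw [Matrix.trace_smul, smul_eq_mul]
    have h4 : (c • M * c • M).trace = c ^ 2 * (M * M).trace := by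
      rw [smul_mul_smul_comm, Matrix.trace_smul, smul_eq_mul, pow_two]
    have h5 : (c * M.trace) ^ 4 = M.trace ^ 4 := by rw [mul_pow, h1, one_mul]
    have h6 : (c * M.trace) ^ 2 * ((c * M.trace) ^ 2 - c ^ 2 * (M * M).trace) =
        M.trace ^ 2 * (M.trace ^ 2 - (M * M).trace) := by
      linear_combination (M.trace ^ 2 * (M.trace ^ 2 - (M * M).trace)) * h1
    have h7 : ((c * M.trace) ^ 2 - c ^ 2 * (M * M).trace) ^ 2 = (M.trace ^ 2 - (M * M).trace) ^ 2 := by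
      linear_combination ((M.trace ^ 2 - (M * M).trace) ^ 2) * h1
    unfold inv43
    rw [exps_smul _ hc, h3, h4, h5, h6, h7]

theorem ord52' : ∀ m ∈ ({1, 2, 3, 4, 5, 6, 8, 9, 11, 12, 15, 18} : Finset ℕ), KTools.HasOrd (Cfsg.SU 5 F4 2) m := by
  obtain ⟨g1, g2, g3, g4, g5⟩ := good52
  obtain ⟨o1, o2, o3, o4, o5⟩ := ord52
  have h8 := hasOrd_of h4 g1 (by norm_num) o1
  have h11 := hasOrd_of h4 g2 (by norm_num) o2
  have h12 := hasOrd_of h4 g3 (by norm_num) o3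
  have h15 := hasOrd_of h4 g4 (by norm_num) o4
  have h18 := hasOrd_of h4 g5 (by norm_num) o5
  intro m hm
  simp only [Finset.mem_insert, Finset.mem_singleton] at hm
  rcases hm with rfl | rfl | rfl | rfl | rfl | rfl | rfl | rfl | rfl | rfl | rfl | rfl
  · exact KTools.hasOrd_one _
  · exact h8.of_dvd (by norm_num) (by norm_num)
  · exact h18.of_dvd (by norm_num) (by norm_num)
  · exact h8.of_dvd (by norm_num) (by norm_num)
  · exact h15.of_dvd (by norm_num) (by norm_num)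
  · exact h18.of_dvd (by norm_num) (by norm_num)
  · exact h8
  · exact h18.of_dvd (by norm_num) (by norm_num)
  · exact h11
  · exact h12
  · exact h15
  · exact h18

theorem psu_two (F : Type) [Field F] [Fintype F] (hF : Fintype.card F = 2 ^ 2) (k : ℕ) :
    12 ≤ Nat.card (ConjClasses (Cfsg.PSU (5 + k) F 2)) := by
  rw [KTools.card_classes_congr (FieldTransfer.psuCongr (5 + k) 2 (FiniteField.ringEquivOfCardEq (hF.trans h4.symm)))]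
  rcases Nat.eq_zero_or_pos k with rfl | hk
  · have h1 := card_classes_le (F := F4) (n := 5) (q := 2) h4 (by norm_num)
    have h2 := KTools.orders_le (G := Cfsg.SU 5 F4 2) _ ord52'
    have h3 : Nat.gcd 5 (2 + 1) = 1 := by norm_num
    rw [h3, one_mul] at h1
    exact le_trans (by decide) (h2.trans h1)
  · have h2 := KTools.orders_le (G := Cfsg.PSU (5 + k) F4 2) {1, 2, 3, 4, 5, 6, 8, 9, 11, 12, 15, 18} (fun m hm =>
      (ord52' m hm).of_injective _ (pr_ext_injective h4 (by omega) hk))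
    exact le_trans (by decide) h2

theorem ord43' (F : Type) [Field F] [Fintype F] (hF : Fintype.card F = 3 ^ 2) :
    ∀ m ∈ ({1, 2, 3, 4, 5, 6, 7, 10, 12, 14, 20, 28} : Finset ℕ), KTools.HasOrd (Cfsg.SU 4 F 3) m := by
  classical
  have hcard : Nat.card (Cfsg.SU 4 F 3) = 13063680 := by
    have h1 := Cfsg.Agent.S0278.result hF 4 (by norm_num)
    have h2 : (3 + 1) * Nat.card (Cfsg.SU 4 F 3) = 4 * 13063680 := by
      rw [h1]; decide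
    (clear * - h2; omega)
  -- a central element of order four
  obtain ⟨z, hz, hz4⟩ : ∃ z : Cfsg.SU 4 F 3, z ∈ Subgroup.center (Cfsg.SU 4 F 3) ∧ orderOf z = 4 := by
    obtain ⟨g, hg⟩ := IsCyclic.exists_ofOrder_eq_natCard (α := Fˣ)
    have h1 : Nat.card Fˣ = 4 * 2 := by
      rw [HermBasic.card_units_eq hF]
    rw [h1] at hg
    have h2 : orderOf (g ^ 2) = 4 := by
      rw [orderOf_pow_of_dvd two_ne_zero (by rw [hg]; norm_num), hg]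
    have h3 : orderOf ((g ^ 2 : Fˣ) : F) = 4 := by rw [orderOf_units, h2]
    have h4 : ((g ^ 2 : Fˣ) : F) ^ 4 = 1 := by rw [← h3, pow_orderOf_eq_one]
    refine ⟨SUBasic.suScalar 3 ((g ^ 2 : Fˣ) : F) h4 h4, SUBasic.suScalar_mem_center _ _ _ _, ?_⟩
    rw [← orderOf_cm]
    refine Eq.trans ?_ h3
    exact orderOf_injective (Matrix.scalar (Fin 4) : F →+* Matrix (Fin 4) (Fin 4) F).toMonoidHom
      (fun a b h => Matrix.scalar_inj.1 h) _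
  have key : ∀ p : ℕ, p.Prime → p ∣ 13063680 → Nat.Coprime 4 p → KTools.HasOrd (Cfsg.SU 4 F 3) (4 * p) := by
    intro p hp hdvd hco
    obtain ⟨x, hx⟩ := KTools.hasOrd_prime (G := Cfsg.SU 4 F 3) hp (by rw [hcard]; exact hdvd)
    exact KTools.HasOrd.mul_of_commute hz4 hx (Subgroup.mem_center_iff.1 hz x).symm hco
  have h12 := key 3 (by norm_num) (by norm_num) (by norm_num)
  have h20 := key 5 (by norm_num) (by norm_num) (by norm_num)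
  have h28 := key 7 (by norm_num) (by norm_num) (by norm_num)
  intro m hm
  simp only [Finset.mem_insert, Finset.mem_singleton] at hm
  rcases hm with rfl | rfl | rfl | rfl | rfl | rfl | rfl | rfl | rfl | rfl | rfl | rfl
  · exact KTools.hasOrd_one _
  · exact h12.of_dvd (by norm_num) (by norm_num)
  · exact h12.of_dvd (by norm_num) (by norm_num)
  · exact h12.of_dvd (by norm_num) (by norm_num)
  · exact h20.of_dvd (by norm_num) (by norm_num)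
  · exact h12.of_dvd (by norm_num) (by norm_num)
  · exact h28.of_dvd (by norm_num) (by norm_num)
  · exact h20.of_dvd (by norm_num) (by norm_num)
  · exact h12
  · exact h28.of_dvd (by norm_num) (by norm_num)
  · exact h20
  · exact h28

theorem psu_three (F : Type) [Field F] [Fintype F] (hF : Fintype.card F = 3 ^ 2) (k : ℕ) (hk : 0 < k) :
    12 ≤ Nat.card (ConjClasses (Cfsg.PSU (4 + k) F 3)) := by
  classical
  have h2 := KTools.orders_le (G := Cfsg.PSU (4 + k) F 3) {1, 2, 3, 4, 5, 6, 7, 10, 12, 14, 20, 28} (fun m hm =>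
    (ord43' F hF m hm).of_injective _ (pr_ext_injective hF (by omega) hk))
  exact le_trans (by decide) h2

/-- **`12 ≤ k(PSU_n(q))`** for `n ≥ 3`, `(n, q) ≠ (3, 2)` -/
theorem twelve_le_psu (F : Type) [Field F] [Fintype F] (n q : ℕ) (hF : Fintype.card F = q ^ 2) (hn : 3 ≤ n)
    (h : ¬ (n = 3 ∧ q = 2)) : 12 ≤ Nat.card (ConjClasses (Cfsg.PSU n F q)) := by
  have hq := GUOrder.two_le hF
  have hle := card_classes_le hF hn
  rcases Nat.lt_or_ge 3 n with hn4 | hn3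
  · -- `n ≥ 4`
    rcases Nat.lt_or_ge q 4 with hq4 | hq4
    · -- `q = 2, 3`
      have hq' : q = 2 ∨ q = 3 := by omega
      rcases hq' with rfl | rfl
      · rcases Nat.lt_or_ge 4 n with hn5 | hn5
        · obtain ⟨k, rfl⟩ := Nat.exists_eq_add_of_le (show 5 ≤ n by omega)
          exact psu_two F hF k
        · obtain rfl : n = 4 := by omega
          exact PSUFourTwo.twelve_le F hF
      · rcases Nat.lt_or_ge 4 n with hn5 | hn5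
        · obtain ⟨k, rfl⟩ := Nat.exists_eq_add_of_le (show 4 ≤ n by omega)
          exact psu_three F hF k (by omega)
        · obtain rfl : n = 4 := by omega
          exact psu43 F hF
    · -- `q ≥ 4`
      obtain ⟨k, rfl⟩ := Nat.exists_eq_add_of_le (show 4 ≤ n by omega)
      have h1 := SteinbergSU.cube_le_four hF k
      by_contra hcon
      have h2 : Nat.card (ConjClasses (Cfsg.PSU (4 + k) F q)) ≤ 11 := by omega
      have h3 : q ^ 3 ≤ Nat.gcd (4 + k) (q + 1) * 11 :=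
        (h1.trans hle).trans (Nat.mul_le_mul_left _ h2)
      have h4 : Nat.gcd (4 + k) (q + 1) ≤ q + 1 := Nat.gcd_le_right _ (by omega)
      have h5 : q ^ 3 ≤ (q + 1) * 11 := h3.trans (Nat.mul_le_mul_right _ h4)
      nlinarith only [h3, h4, mul_le_mul hq4 hq4 (by norm_num) (by omega)]
  · -- `n = 3`
    obtain rfl : n = 3 := by omega
    have hq2 : q ≠ 2 := fun h' => h ⟨rfl, h'⟩
    rcases eq_or_ne q 3 with rfl | hq3
    · exact psu33 F hF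
    rcases eq_or_ne q 5 with rfl | hq5
    · exact psu35 F hF
    have h1 := SteinbergSU.sq_le_three hF 0
    by_contra hcon
    have h2 : Nat.card (ConjClasses (Cfsg.PSU 3 F q)) ≤ 11 := by omega
    have h3 : q ^ 2 ≤ Nat.gcd 3 (q + 1) * 11 := (h1.trans hle).trans (Nat.mul_le_mul_left _ h2)
    have h4 : Nat.gcd 3 (q + 1) ≤ 3 := Nat.gcd_le_left _ (by norm_num)
    rcases eq_or_ne q 4 with rfl | hq4
    · norm_num at h3
    · have h5 : q ^ 2 ≤ 3 * 11 := h3.trans (Nat.mul_le_mul_right _ h4)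
      have h6 : 6 ≤ q := by omega
      nlinarith only [h3, h4, h6]

end Cfsg.Agent.H674.TwelvePSU
end

private theorem dce_aa0ba6c6a1a7 : _root_.True := by
  try have : _root_.True := by simp only [_root_.Cfsg.Agent.H674.SteinbergSU.J4.eq_1]
  try have : _root_.True := by simp only [_root_.Cfsg.Agent.H674.SteinbergSU.J3.eq_1]
  exact _root_.True.intro
end
end
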